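import Cfsg.Agent.ClassicalMax.Transvection
import Cfsg.Agent.Classical.OrthEichler
import Cfsg.Agent.Classical.OrthMat

/-!
Non-maximality of subgroups of classical groups: a subgroup that preserves a set of vectors lies strictly
between, as soon as one element preserving the set is outside it and one element of the group moves the set.
Also elements of the commutator subgroup of an orthogonal group as matrices.
-/

set_option autoImplicit false
set_option linter.unusedSectionVars false

namespace Cfsg.Agent.NotMax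

open Module QuadraticMap Cfsg.Agent.ClassicalMax Cfsg.Agent.Classical Cfsg.Agent.Classical.Quad

variable {ι : Type} [Fintype ι] [DecidableEq ι] {F : Type*} [Field F]

/-- an element mapping a set of vectors into itself stabilises it, over a finite field -/
theorem mem_stabilizing [Finite F] (S : Set (ι → F)) (g : GL ι F)
    (h : ∀ v ∈ S, (g : Matrix ι ι F).mulVec v ∈ S) : g ∈ Cfsg.stabilizing (Cfsg.glToMat ι F) S := by
  intro v
  refine ⟨h v, fun hv => ?_⟩
  let f : S → S := fun s => ⟨_, h s.1 s.2⟩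
  have hinj : Function.Injective f := fun a b hab => Subtype.ext
    ((glEquiv ι F g).injective (congrArg Subtype.val hab))
  obtain ⟨⟨u, hu⟩, he⟩ := (Finite.injective_iff_surjective.1 hinj) ⟨_, hv⟩
  have := (glEquiv ι F g).injective (congrArg Subtype.val he)
  exact this ▸ hu

/-- `K = stab(S) ∩ G` lies strictly between `M ∩ G` and `G` -/
theorem exists_between [Finite F] (G M : Subgroup (GL ι F)) (S : Set (ι → F))
    (h : ∀ g ∈ M, g ∈ G → ∀ v ∈ S, (g : Matrix ι ι F).mulVec v ∈ S)
    (h1 : ∃ g ∈ G, (∀ v ∈ S, (g : Matrix ι ι F).mulVec v ∈ S) ∧ g ∉ M)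
    (h2 : ∃ g ∈ G, ∃ v ∈ S, (g : Matrix ι ι F).mulVec v ∉ S) :
    ∃ K : Subgroup (GL ι F), M ⊓ G < K ∧ K < G := by
  refine ⟨Cfsg.stabilizing (Cfsg.glToMat ι F) S ⊓ G, ?_, ?_⟩
  · refine lt_of_le_not_ge (fun g hg => ⟨mem_stabilizing S g (h g hg.1 hg.2), hg.2⟩) fun hle => ?_
    obtain ⟨g, hgG, hgS, hgM⟩ := h1
    exact hgM (hle ⟨mem_stabilizing S g hgS, hgG⟩).1
  · refine lt_of_le_not_ge inf_le_right fun hle => ?_
    obtain ⟨g, hgG, v, hv, hgv⟩ := h2
    exact hgv (((hle hgG).1 v).1 hv)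

/-- a non-degenerate quadratic form given as a function, as a quadratic form -/
def toQF {Q : (ι → F) → F} (hQ : Cfsg.Geo.IsNondegenerateQuadraticForm Q) : QuadraticForm F (ι → F) :=
  QuadraticMap.ofPolar Q (fun a x => by rw [hQ.smul, smul_eq_mul, pow_two]) hQ.polar_bilinear.add_left
    (fun a x y => by rw [hQ.polar_bilinear.smul_left, smul_eq_mul])

theorem toQF_coe {Q : (ι → F) → F} (hQ : Cfsg.Geo.IsNondegenerateQuadraticForm Q) : ⇑(toQF hQ) = Q := rfl

theorem toQF_nondeg {Q : (ι → F) → F} (hQ : Cfsg.Geo.IsNondegenerateQuadraticForm Q) :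
    (polarBilin (toQF hQ)).Nondegenerate :=
  ⟨fun x hx => by_contra fun h => (hQ.nondegenerate x h).2.elim fun y hy => hy (hx y),
    fun x hx => by_contra fun h => (hQ.nondegenerate x h).1.elim fun y hy => hy (hx y)⟩

variable [Fintype F] {Q : QuadraticForm F (ι → F)}

/-- an element of the commutator subgroup of the isometry group as an element of `Ω` -/
theorem mem_omega_of (g : oG Q) (hg : g ∈ commutator (oG Q)) :
    (glEquiv ι F).symm g.1 ∈ Cfsg.Geo.omegaGL ⇑Q := by
  have e : (((oEquiv Q).symm g : Cfsg.isometryGroup F ⇑Q) : GL ι F) = (glEquiv ι F).symm g.1 := by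
    apply (glEquiv ι F).injective
    refine LinearEquiv.ext fun x => ?_
    rw [MulEquiv.apply_symm_apply, glEquiv_apply, ← oEquiv_apply, MulEquiv.apply_symm_apply]
  rw [← e, Cfsg.Geo.omegaGL]
  exact Subgroup.mem_map.2 ⟨_, (mem_omega_iff _).2 (by rwa [MulEquiv.apply_symm_apply]), rfl⟩

theorem omega_map (g : GL ι F) (hg : g ∈ Cfsg.Geo.omegaGL ⇑Q) (v : ι → F) :
    Q ((g : Matrix ι ι F).mulVec v) = Q v := by
  obtain ⟨g', -, rfl⟩ := Subgroup.mem_map.1 hg
  exact g'.2 v v

theorem omega_polar (g : GL ι F) (hg : g ∈ Cfsg.Geo.omegaGL ⇑Q) (u v : ι → F) :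
    polar Q ((g : Matrix ι ι F).mulVec u) ((g : Matrix ι ι F).mulVec v) = polar Q u v := by
  simp only [polar, ← Matrix.mulVec_add, omega_map g hg]

/-- Siegel transformations as elements of `Ω` -/
theorem exists_siegel (hQ : (polarBilin Q).Nondegenerate) (hn : 5 ≤ Fintype.card ι) {p w : ι → F} (hp : Q p = 0)
    (hpw : polar Q p w = 0) :
    ∃ g ∈ Cfsg.Geo.omegaGL ⇑Q, ∀ x, (g : Matrix ι ι F).mulVec x =
      x + polar Q x w • p + (-polar Q x p) • w + (-(Q w * polar Q x p)) • p := by
  haveI : Finite F := inferInstance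
  refine ⟨_, mem_omega_of (sO hp hpw) (sO_mem_commutator hQ (Or.inr ?_) hp hpw), fun x => ?_⟩
  · rw [Module.finrank_fintype_fun_eq_card]; omega
  · rw [symm_mulVec, sO_apply]

/-- products of two reflections of the same norm as elements of `Ω` -/
theorem exists_refl_pair (hQ : (polarBilin Q).Nondegenerate) {u v : ι → F} (hu : Q u ≠ 0) (huv : Q v = Q u) :
    ∃ g ∈ Cfsg.Geo.omegaGL ⇑Q, ∀ x, (g : Matrix ι ι F).mulVec x =
      (rO hu).1 ((rO (v := v) (huv.trans_ne hu)).1 x) :=
  ⟨_, mem_omega_of _ (rO_mul_mem_commutator hQ hu (huv.trans_ne hu) (t := 1) (by rw [huv]; ring)),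
    fun x => by rw [symm_mulVec]; rfl⟩

end Cfsg.Agent.NotMax
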