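import Cfsg.Agent.NotMax.Parts

/-!
Stabilisers of decompositions over very small fields preserve the number of non-zero components, a form in
the coordinates, so they are not maximal in the special linear and in the symplectic group.
-/

set_option autoImplicit false
set_option linter.unusedSectionVars false

namespace Cfsg.Agent.NotMax

open Module Cfsg.Agent.ClassicalMax

section Linear

variable {F : Type*} [Field F] {W : Type*} [AddCommGroup W] [Module F W] {t : ℕ}

open scoped _root_.Classical in
/-- add the sum over four coordinates to each of them -/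
noncomputable def spread (A : Fin 4 ↪ Fin t) (h6 : (6 : F) = 0) : (Fin t → W) ≃ₗ[F] (Fin t → W) :=
  LinearEquiv.ofInvolutive
    { toFun := fun x i => x i + if i ∈ Set.range A then ∑ j, x (A j) else 0
      map_add' := fun x y => funext fun i => by
        by_cases h : i ∈ Set.range A
        · simp only [Pi.add_apply, if_pos h, Finset.sum_add_distrib]; abel
        · simp only [Pi.add_apply, if_neg h, add_zero]
      map_smul' := fun c x => funext fun i => by
        by_cases h : i ∈ Set.range A
        · simp only [Pi.smul_apply, if_pos h, RingHom.id_apply, smul_add, Finset.smul_sum]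
        · simp only [Pi.smul_apply, if_neg h, RingHom.id_apply, add_zero] }
    (fun x => funext fun i => by
      have hA : ∀ j, A j ∈ Set.range A := fun j => ⟨j, rfl⟩
      show x i + (if i ∈ Set.range A then ∑ j, x (A j) else 0) + (if i ∈ Set.range A then
        ∑ j, (x (A j) + if A j ∈ Set.range A then ∑ l, x (A l) else 0) else 0) = x i
      by_cases h : i ∈ Set.range A
      · simp only [if_pos h, if_pos (hA _), Finset.sum_add_distrib, Finset.sum_const, Finset.card_univ,
          Fintype.card_fin]
        set s := ∑ j, x (A j) with hs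
        rw [show x i + s + (s + 4 • s) = x i + (6 : F) • s by
          rw [← Nat.cast_smul_eq_nsmul F 4 s]; push_cast; module, h6, zero_smul, add_zero]
      · simp only [if_neg h, add_zero])

theorem spread_apply_of (A : Fin 4 ↪ Fin t) (h6 : (6 : F) = 0) (x : Fin t → W) (j : Fin 4) :
    spread A h6 x (A j) = x (A j) + ∑ l, x (A l) := by
  classical
  show x (A j) + (if A j ∈ Set.range A then _ else 0) = _
  rw [if_pos ⟨j, rfl⟩]

theorem spread_apply_out (A : Fin 4 ↪ Fin t) (h6 : (6 : F) = 0) (x : Fin t → W) {i : Fin t} (hi : ∀ j, A j ≠ i) :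
    spread A h6 x i = x i := by
  classical
  show x i + (if i ∈ Set.range A then _ else 0) = _
  rw [if_neg (by rintro ⟨j, rfl⟩; exact hi j rfl), add_zero]

theorem sum_spread (A : Fin 4 ↪ Fin t) (h6 : (6 : F) = 0) {φ : W → F}
    (hφ : ∀ x : Fin 4 → W, ∑ j, φ (x j + ∑ l, x l) = ∑ j, φ (x j)) (x : Fin t → W) :
    ∑ i, φ (spread A h6 x i) = ∑ i, φ (x i) := by
  classical
  rw [← Finset.sum_add_sum_compl (Finset.univ.map A) (fun i => φ (spread A h6 x i)),
    ← Finset.sum_add_sum_compl (Finset.univ.map A) (fun i => φ (x i)), Finset.sum_map, Finset.sum_map]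
  congr 1
  · simp only [spread_apply_of]
    exact hφ fun j => x (A j)
  · refine Finset.sum_congr rfl fun i hi => ?_
    rw [spread_apply_out A h6 x fun j e => ?_]
    exact Finset.mem_compl.1 hi (Finset.mem_map.2 ⟨j, Finset.mem_univ j, e⟩)

variable {ι : Type} [Fintype ι] [DecidableEq ι] [Finite F] {m : ℕ} {D : Fin t → Submodule F (ι → F)}

theorem linear_not_max (hD : Cfsg.Geo.IsMDecomposition m D) (ht : 7 ≤ t) (h6 : (6 : F) = 0) (φ : (Fin m → F) → F)
    (hφ0 : φ 0 = 0) (hφ1 : ∀ w, w ≠ 0 → φ w = 1)
    (hφ : ∀ x : Fin 4 → Fin m → F, ∑ j, φ (x j + ∑ l, x l) = ∑ j, φ (x j)) :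
    ∃ K : Subgroup (GL ι F), Cfsg.Geo.decompositionStabilizer D ⊓ Cfsg.Geo.specialLinear ι F < K ∧
      K < Cfsg.Geo.specialLinear ι F := by
  classical
  obtain ⟨p, hp⟩ := exists_parts hD
  let ψ : ∀ i, D i ≃ₗ[F] (Fin m → F) := fun i => (Module.finBasisOfFinrankEq F (D i) (hD.finrank_eq i)).equivFun
  let E : (ι → F) ≃ₗ[F] (Fin t → Fin m → F) :=
    { toFun := fun v i => ψ i ⟨p i v, hp.mem i v⟩
      map_add' := fun u v => funext fun i => by
        rw [show (⟨p i (u + v), hp.mem i _⟩ : D i) = ⟨p i u, hp.mem i u⟩ + ⟨p i v, hp.mem i v⟩ from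
          Subtype.ext (map_add _ _ _), map_add]
        rfl
      map_smul' := fun c v => funext fun i => by
        rw [show (⟨p i (c • v), hp.mem i _⟩ : D i) = c • ⟨p i v, hp.mem i v⟩ from
          Subtype.ext (map_smul _ _ _), map_smul]
        rfl
      invFun := fun x => ∑ i, ((ψ i).symm (x i) : ι → F)
      left_inv := fun v => by
        simp only [LinearEquiv.symm_apply_apply]
        exact hp.sum v
      right_inv := fun x => funext fun i => by
        show ψ i ⟨p i (∑ j, ((ψ j).symm (x j) : ι → F)), _⟩ = x i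
        have : (⟨p i (∑ j, ((ψ j).symm (x j) : ι → F)), hp.mem i _⟩ : D i) = (ψ i).symm (x i) := Subtype.ext (by
          show p i (∑ j, ((ψ j).symm (x j) : ι → F)) = _
          rw [map_sum, Finset.sum_eq_single i (fun j _ hj => hp.other j i hj _ (Submodule.coe_mem _)) (by simp),
            hp.same i _ (Submodule.coe_mem _)])
        rw [this, LinearEquiv.apply_symm_apply] }
  have hEz : ∀ v i, E v i = 0 ↔ p i v = 0 := fun v i => by
    show ψ i ⟨p i v, _⟩ = 0 ↔ _
    rw [LinearEquiv.map_eq_zero_iff, Submodule.mk_eq_zero]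
  have hΦ : ∀ v, weight p v = ∑ i, φ (E v i) := fun v => Finset.sum_congr rfl fun i _ => by
    by_cases h : p i v = 0
    · rw [if_pos h, (hEz v i).2 h, hφ0]
    · rw [if_neg h, hφ1 _ (fun e => h ((hEz v i).1 e))]
  let A : Fin 4 ↪ Fin t := ⟨fun j => ⟨j, by omega⟩, fun a b e => Fin.ext (by simpa using congrArg Fin.val e)⟩
  let B : Fin 4 ↪ Fin t := ⟨fun j => ⟨3 + j, by omega⟩, fun a b e => Fin.ext (by simpa using congrArg Fin.val e)⟩
  have hAv : ∀ j, (A j : ℕ) = j := fun _ => rfl
  have hBv : ∀ j, (B j : ℕ) = 3 + j := fun _ => rfl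
  let R : (Fin 4 ↪ Fin t) → ((ι → F) ≃ₗ[F] (ι → F)) := fun A => (E.trans (spread A h6)).trans E.symm
  have hER : ∀ (A : Fin 4 ↪ Fin t) v, E (R A v) = spread A h6 (E v) := fun A v => E.apply_symm_apply _
  have hW : ∀ (A : Fin 4 ↪ Fin t) v, weight p (R A v) = weight p v := fun A v => by
    rw [hΦ, hΦ, hER, sum_spread A h6 hφ]
  have hRR : ∀ A : Fin 4 ↪ Fin t, R A * R A = 1 := fun A => LinearEquiv.ext fun v => E.injective (by
    rw [LinearEquiv.mul_apply, hER, hER]
    exact (spread A h6).symm_apply_apply (E v))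
  set g := R A * R B * R A * R B with hg
  have hgSL : (glEquiv ι F).symm g ∈ Cfsg.Geo.specialLinear ι F := by
    rw [mem_specialLinear_iff, MulEquiv.apply_symm_apply]
    have h1 : ∀ A : Fin 4 ↪ Fin t, LinearEquiv.det (R A) * LinearEquiv.det (R A) = 1 := fun A => by
      rw [← map_mul, hRR, map_one]
    have : LinearEquiv.det g = 1 := by
      rw [hg, map_mul, map_mul, map_mul, mul_assoc (LinearEquiv.det (R A) * LinearEquiv.det (R B)),
        mul_mul_mul_comm (LinearEquiv.det (R A)), h1, one_mul, h1]
    rw [← LinearEquiv.coe_det, this, Units.val_one]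
  have hne : (2 : F) ≠ 1 := fun h => one_ne_zero (α := F) (by linear_combination h)
  let w : Fin m → F := fun _ => 1
  have hw : w ≠ 0 := fun h => one_ne_zero (congrFun h ⟨0, hD.pos⟩)
  let i0 : Fin t := ⟨0, by omega⟩
  let v := E.symm (Pi.single i0 w)
  have hv : v ∈ D i0 := by
    have : ∀ i, i ≠ i0 → p i v = 0 := fun i hi => (hEz v i).1 (by simp [v, hi])
    rw [← hp.sum v, Finset.sum_eq_single i0 (fun i _ hi => this i hi) (by simp)]
    exact hp.mem i0 v
  have hv0 : v ≠ 0 := fun h => hw (by simpa [v] using h)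
  obtain ⟨ψ', hψ'⟩ : ∃ ψ' : Dual F (ι → F), ψ' v = 1 ∧ ∀ u, E u i0 = 0 → ψ' u = 0 :=
    ⟨((LinearMap.proj (⟨0, hD.pos⟩ : Fin m)).comp (LinearMap.proj i0)).comp E.toLinearMap, by simp [v, w], fun u hu => by
      simp [hu]⟩
  let x := E.symm (Pi.single (⟨1, by omega⟩ : Fin t) w)
  have h10 : (⟨1, by omega⟩ : Fin t) ≠ i0 := by simp [i0, Fin.ext_iff]
  have hψx : ψ' x = 0 := hψ'.2 x (by simp [x, h10.symm])
  refine exists_between _ _ {u | weight p u = 1} (fun k hkM _ u hu => (weight_invariant hp hkM u).trans hu)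
    ⟨_, hgSL, fun u hu => ?_, fun hM => ?_⟩
    ⟨_, tvec_mem_specialLinear ψ' x, v, weight_single hp hv hv0, fun h => ?_⟩
  · show weight p _ = 1
    rw [symm_mulVec, hg, LinearEquiv.mul_apply, LinearEquiv.mul_apply, LinearEquiv.mul_apply, hW, hW, hW, hW]
    exact hu
  · obtain ⟨σ, hσ⟩ := hM
    have hgv : g v ∈ D (σ i0) := by
      rw [← symm_mulVec g, ← hσ i0]
      exact ⟨v, hv, Matrix.toLin'_apply _ _⟩
    have hB0 : ∀ j, B j ≠ i0 := fun j e => by
      have := congrArg Fin.val e
      rw [hBv] at this; simp [i0] at this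
    have e1 : spread B h6 (Pi.single i0 w) = Pi.single i0 w := funext fun i => by
      by_cases h : ∃ j, B j = i
      · obtain ⟨j, rfl⟩ := h
        rw [spread_apply_of]
        simp [hB0]
      · push Not at h
        rw [spread_apply_out _ _ _ h]
    set X := spread A h6 (Pi.single i0 w) with hX
    have hsA : ∑ l, (Pi.single i0 w : Fin t → Fin m → F) (A l) = w := by
      rw [Fin.sum_univ_four]; simp [Pi.single_apply, Fin.ext_iff, hAv, i0]
    have hXA : ∀ j, j ≠ 0 → X (A j) = w := fun j hj => by
      have : A j ≠ i0 := fun e => hj (Fin.ext (by simpa [hAv, i0] using congrArg Fin.val e))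
      rw [hX, spread_apply_of, hsA, Pi.single_eq_of_ne this, zero_add]
    have hXA0 : X (A 0) = w + w := by
      rw [hX, spread_apply_of, hsA, show A 0 = i0 from Fin.ext rfl, Pi.single_eq_same]
    have hXB : ∀ j, j ≠ 0 → X (B j) = 0 := fun j hj => by
      have hout : ∀ l, A l ≠ B j := fun l e => hj (Fin.ext (by
        have := congrArg Fin.val e
        rw [hAv, hBv] at this
        simp; omega))
      rw [hX, spread_apply_out _ _ _ hout, Pi.single_eq_of_ne (hB0 j)]
    set Y := spread B h6 X with hY
    have hsB : ∑ l, X (B l) = w := by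
      rw [Fin.sum_univ_four, hXB 1 (by decide), hXB 2 (by decide), hXB 3 (by decide),
        show B 0 = A 3 from Fin.ext rfl, hXA 3 (by decide)]
      simp
    have hA3 : ∀ j, j ≠ 3 → Y (A j) = X (A j) := fun j hj => by
      rw [hY, spread_apply_out]
      intro l e
      have := congrArg Fin.val e
      rw [hAv, hBv] at this
      exact hj (Fin.ext (by simp; omega))
    have hY3 : Y (A 3) = w + w := by
      rw [show A 3 = B 0 from Fin.ext rfl, hY, spread_apply_of, hsB, show B 0 = A 3 from Fin.ext rfl, hXA 3 (by decide)]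
    have hsum : ∑ l, Y (A l) = (6 : F) • w := by
      rw [Fin.sum_univ_four, hA3 0 (by decide), hA3 1 (by decide), hA3 2 (by decide), hXA0, hXA 1 (by decide),
        hXA 2 (by decide), hY3]
      module
    rw [h6, zero_smul] at hsum
    have hfin : ∀ i, spread A h6 Y i = Y i := fun i => by
      by_cases h : ∃ j, A j = i
      · obtain ⟨j, rfl⟩ := h
        rw [spread_apply_of, hsum, add_zero]
      · push Not at h
        rw [spread_apply_out _ _ _ h]
    have hEg : ∀ i, E (g v) i = Y i := fun i => by
      rw [hg, LinearEquiv.mul_apply, LinearEquiv.mul_apply, LinearEquiv.mul_apply, hER, hER, hER, hER,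
        show E v = Pi.single i0 w from E.apply_symm_apply _, e1]
      exact hfin i
    refine notMem_of_parts hp (i := A 1) (j := B 1) (fun e => by have := congrArg Fin.val e; rw [hAv, hBv] at this; simp at this)
      (fun h => hw ?_) (fun h => hw ?_) _ hgv
    · rw [← hXA 1 (by decide), ← hA3 1 (by decide), ← hEg, (hEz _ _).2 h]
    · have := (hEz _ _).2 h
      rw [hEg, hY, spread_apply_of, hXB 1 (by decide), hsB, zero_add] at this
      exact this
  · rw [Set.mem_setOf_eq, symm_mulVec, tvec_apply hψx, hψ'.1, one_smul] at h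
    have hx : x ∈ D ⟨1, by omega⟩ := by
      rw [← hp.sum x, Finset.sum_eq_single (⟨1, by omega⟩ : Fin t) (fun i _ hi => (hEz x i).1 (by simp [x, hi])) (by simp)]
      exact hp.mem _ x
    rw [weight_pair hp h10.symm hv hv0 hx (fun e => hw (by simpa [x] using e))] at h
    exact hne (by linear_combination h)

end Linear

section Symplectic

variable {ι : Type} [Fintype ι] [DecidableEq ι] {F : Type*} [Field F] [Fintype F] {t : ℕ}
  {D : Fin t → Submodule F (ι → F)}

theorem symp_two_not_max (f : (ι → F) → (ι → F) → F) (hf : Cfsg.Geo.IsBilinearForm f) (halt : ∀ v, f v v = 0)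
    (hq : Fintype.card F = 2) (hD : Cfsg.Geo.IsNondegenerateMDecomposition f 2 D) (ht : 3 ≤ t)
    (G : Subgroup (GL ι F))
    (hG : ∀ g : GL ι F, (∀ u v, f ((g : Matrix ι ι F).mulVec u) ((g : Matrix ι ι F).mulVec v) = f u v) → g ∈ G) :
    ∃ K : Subgroup (GL ι F), Cfsg.Geo.decompositionStabilizer D ⊓ G < K ∧ K < G := by
  classical
  obtain ⟨p, hp⟩ := exists_parts hD.decomp
  have h2 : (2 : F) = 0 := by
    have h := FiniteField.cast_card_eq_zero F
    rw [hq] at h; exact_mod_cast h
  have h01 : ∀ x : F, x = 0 ∨ x = 1 := fun x => by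
    by_cases hx : x = 0
    · exact Or.inl hx
    · have h := FiniteField.pow_card_sub_one_eq_one x hx
      rw [hq] at h; exact Or.inr (by simpa using h)
  let fB : (ι → F) →ₗ[F] (ι → F) →ₗ[F] F := LinearMap.mk₂ F f hf.add_left
    (fun c u v => by rw [hf.smul_left, smul_eq_mul]) hf.add_right (fun c u v => by rw [hf.smul_right, smul_eq_mul])
  have hfB : ∀ u v, f u v = fB u v := fun u v => rfl
  have hsymm : ∀ u v, f v u = f u v := fun u v => by
    have h := halt (u + v)
    rw [hf.add_left, hf.add_right, hf.add_right, halt, halt] at h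
    linear_combination h - f u v * h2
  let ind : (ι → F) → F := fun v => if v = 0 then 0 else 1
  have hind : ∀ i, ∀ a ∈ D i, ∀ b ∈ D i, ind (a + b) = ind a + ind b + f a b := by
    intro i a ha b hb
    by_cases ha0 : a = 0
    · subst ha0; simp [ind, hfB]
    by_cases hb0 : b = 0
    · subst hb0; simp [ind, hfB]
    by_cases hab : a = b
    · subst hab
      have : a + a = 0 := funext fun j => by show a j + a j = 0; linear_combination a j * h2
      simp [ind, this, ha0, halt]
      linear_combination -h2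
    have hab0 : a + b ≠ 0 := fun h => hab (funext fun j => by
      have := congrFun h j
      simp at this
      linear_combination this - b j * h2)
    have hf1 : f a b = 1 := (h01 (f a b)).resolve_left fun h0 => by
      obtain ⟨-, y, hy, hay⟩ := hD.nondegenerate i a ha ha0
      have hli : LinearIndependent F ![a, b] := by
        rw [LinearIndependent.pair_iff]
        intro c d hcd
        rcases h01 c with rfl | rfl <;> rcases h01 d with rfl | rfl <;> simp_all
      have hsp : Submodule.span F (Set.range ![a, b]) = D i := by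
        refine Submodule.eq_of_le_of_finrank_eq ?_ (by rw [finrank_span_eq_card hli, hD.decomp.finrank_eq]; rfl)
        rw [Submodule.span_le]
        rintro _ ⟨j, rfl⟩
        fin_cases j
        · exact ha
        · exact hb
      rw [← hsp, Matrix.range_cons, Matrix.range_cons, Matrix.range_empty, Set.union_empty, Set.singleton_union,
        Submodule.mem_span_pair] at hy
      obtain ⟨c, d, rfl⟩ := hy
      refine hay ?_
      rw [hf.add_right, hf.smul_right, hf.smul_right, halt, h0]
      ring
    simp [ind, ha0, hb0, hab0, hf1]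
    linear_combination h2
  have hadd : ∀ u v, weight p (u + v) = weight p u + weight p v + f u v := fun u v => by
    have hfs : f u v = ∑ i, f (p i u) (p i v) := by
      conv_lhs => rw [← hp.sum u, ← hp.sum v]
      simp only [hfB, map_sum, LinearMap.sum_apply]
      exact Finset.sum_congr rfl fun i _ => Finset.sum_eq_single i
        (fun j _ hj => hD.orthogonal j i hj _ (hp.mem j u) _ (hp.mem i v)) (by simp)
    simp only [weight, hfs, ← Finset.sum_add_distrib]
    refine Finset.sum_congr rfl fun i _ => ?_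
    have := hind i _ (hp.mem i u) _ (hp.mem i v)
    rw [← map_add] at this
    exact this
  have htv : ∀ z, ∃ g ∈ G, ∀ x, (g : Matrix ι ι F).mulVec x = x + f x z • z := fun z => by
    have hz : fB.flip z z = 0 := halt z
    refine ⟨(glEquiv ι F).symm (tvec (fB.flip z) z), hG _ fun u v => ?_,
      fun x => by rw [symm_mulVec, tvec_apply hz]; rfl⟩
    rw [symm_mulVec, symm_mulVec, tvec_apply hz, tvec_apply hz]
    show f (u + f u z • z) (v + f v z • z) = f u v
    rw [hf.add_left, hf.add_right, hf.add_right, hf.smul_left, hf.smul_left, hf.smul_right, hf.smul_right, halt,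
      hsymm v z]
    linear_combination f u z * f v z * h2
  let I : Fin 3 → Fin t := fun j => ⟨j, by omega⟩
  have hI : ∀ a b : Fin 3, a ≠ b → I a ≠ I b := fun a b h e => h (Fin.ext (by simpa [I] using congrArg Fin.val e))
  have hex : ∀ i, ∃ a ∈ D i, a ≠ (0 : ι → F) := fun i => (D i).exists_mem_ne_zero_of_ne_bot fun h => by
    have := hD.decomp.finrank_eq i
    rw [h, finrank_bot] at this; omega
  choose a ha ha0 using hex
  have hw1 : ∀ i, weight p (a i) = 1 := fun i => weight_single hp (ha i) (ha0 i)
  obtain ⟨x, hx, hax⟩ : ∃ x ∈ D (I 0), f x (a (I 0)) = 1 := by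
    obtain ⟨⟨x, hx, hne⟩, -⟩ := hD.nondegenerate (I 0) _ (ha _) (ha0 _)
    exact ⟨x, hx, (h01 _).resolve_left hne⟩
  have hx0 : x ≠ 0 := fun h => by rw [h, hfB] at hax; simp at hax
  have horth : ∀ c d, c ≠ d → ∀ u ∈ D (I c), ∀ v ∈ D (I d), f u v = 0 := fun c d h => hD.orthogonal _ _ (hI c d h)
  set z := a (I 0) + a (I 1) + a (I 2) with hz
  have hQz : weight p z = 1 := by
    rw [hz, hadd, hadd, hw1, hw1, hw1, hf.add_left, horth 0 1 (by decide) _ (ha _) _ (ha _),
      horth 0 2 (by decide) _ (ha _) _ (ha _), horth 1 2 (by decide) _ (ha _) _ (ha _)]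
    linear_combination h2
  obtain ⟨g1, hg1, hg1e⟩ := htv z
  obtain ⟨g2, hg2, hg2e⟩ := htv (x + a (I 1))
  refine exists_between G _ {v | weight p v = 1} (fun g hgM _ v hv => (weight_invariant hp hgM v).trans hv)
    ⟨g1, hg1, fun v hv => ?_, fun hM => ?_⟩ ⟨g2, hg2, a (I 0), hw1 _, fun h => ?_⟩
  · have hv1 : weight p v = 1 := hv
    show weight p _ = 1
    rw [hg1e]
    rcases h01 (f v z) with h | h <;> rw [h]
    · rw [zero_smul, add_zero]; exact hv1
    · rw [one_smul, hadd, hv1, hQz, h]; linear_combination h2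
  · obtain ⟨σ, hσ⟩ := hM
    have h := hσ (I 0) ▸ (Submodule.mem_map_of_mem hx : Matrix.toLin' (g1 : Matrix ι ι F) x ∈ _)
    have hfz : f x z = 1 := by
      rw [hz, hf.add_right, hf.add_right, hax, horth 0 1 (by decide) _ hx _ (ha _), horth 0 2 (by decide) _ hx _ (ha _)]
      ring
    rw [Matrix.toLin'_apply, hg1e, hfz, one_smul, hz] at h
    refine notMem_of_parts hp (hI 1 2 (by decide)) ?_ ?_ _ h
    · simp only [map_add, hp.other _ _ (hI 0 1 (by decide)) x hx, hp.other _ _ (hI 0 1 (by decide)) _ (ha _),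
        hp.same _ _ (ha _), hp.other _ _ (hI 2 1 (by decide)) _ (ha _), zero_add, add_zero]
      exact ha0 _
    · simp only [map_add, hp.other _ _ (hI 0 2 (by decide)) x hx, hp.other _ _ (hI 0 2 (by decide)) _ (ha _),
        hp.same _ _ (ha _), hp.other _ _ (hI 1 2 (by decide)) _ (ha _), zero_add, add_zero]
      exact ha0 _
  · have hfz : f (a (I 0)) (x + a (I 1)) = 1 := by
      rw [hf.add_right, hsymm x (a (I 0)), hax, horth 0 1 (by decide) _ (ha _) _ (ha _), add_zero]
    rw [Set.mem_setOf_eq, hg2e, hfz, one_smul, hadd, hw1, hfz, hadd, weight_single hp hx hx0, hw1,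
      horth 0 1 (by decide) _ hx _ (ha _)] at h
    exact one_ne_zero (α := F) (by linear_combination -h + 2 * h2)

end Symplectic

end Cfsg.Agent.NotMax
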