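import Cfsg.Agent.NotMax.OrthDecomp
import Cfsg.Agent.Classical.QuadDecomp

/-!
Orthogonal bases, frames and hyperbolic bases of the small members of an orthogonal decomposition.
-/

set_option autoImplicit false
set_option linter.unusedSectionVars false

namespace Cfsg.Agent.NotMax

open Module QuadraticMap Cfsg.Agent.ClassicalMax Cfsg.Agent.Classical Cfsg.Agent.Classical.Quad

variable {ι : Type} [Fintype ι] [DecidableEq ι] {F : Type*} [Field F]

theorem mul_card_eq {t m : ℕ} {D : Fin t → Submodule F (ι → F)} (hD : Cfsg.Geo.IsMDecomposition m D) :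
    t * m = Fintype.card ι := by
  classical
  have hI := DirectSum.isInternal_submodule_of_iSupIndep_of_iSup_eq_top hD.indep hD.iSup_eq_top
  have e := (hI.collectedBasis fun i => Module.finBasis F (D i))
  rw [← Module.finrank_fintype_fun_eq_card F, Module.finrank_eq_card_basis e]
  simp [hD.finrank_eq]

variable [Fintype F] {Q : QuadraticForm F (ι → F)} {W : Submodule F (ι → F)}

theorem exists_hyp_in (hW : Cfsg.Geo.IsNondegenerateOn (QuadraticMap.polar ⇑Q) W) {e : ι → F} (he : e ∈ W)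
    (he0 : e ≠ 0) (hQe : Q e = 0) : ∃ f ∈ W, Q f = 0 ∧ polar Q e f = 1 := by
  obtain ⟨-, w, hwW, hw⟩ := hW e he he0
  set w' := (polar Q e w)⁻¹ • w with hw'
  have hew : polar Q e w' = 1 := by rw [hw', polar_smul_right, smul_eq_mul, inv_mul_cancel₀ hw]
  refine ⟨w' + (-Q w') • e, W.add_mem (W.smul_mem _ hwW) (W.smul_mem _ he), ?_, ?_⟩
  · rw [map_add_smul, hQe, polar_comm Q w', hew]; ring
  · rw [polar_add_right, hew, polar_smul_right, polar_self', hQe]; simp

/-- an anisotropic vector orthogonal to a short orthogonal family -/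
theorem exists_aniso_in (hW : Cfsg.Geo.IsNondegenerateOn (QuadraticMap.polar ⇑Q) W) (h2 : (2 : F) ≠ 0) {j : ℕ}
    (l : Fin j → (ι → F)) (hl : ∀ p, l p ∈ W) (hlQ : ∀ p, Q (l p) ≠ 0) (hlo : ∀ p q, p ≠ q → polar Q (l p) (l q) = 0)
    (hj : j < finrank F W) : ∃ b ∈ W, Q b ≠ 0 ∧ ∀ p, polar Q (l p) b = 0 := by
  let L : W →ₗ[F] (Fin j → F) := LinearMap.pi fun p => (polarBilin Q (l p)).domRestrict W
  have hker : LinearMap.ker L ≠ ⊥ := LinearMap.ker_ne_bot_of_finrank_lt (by rwa [Module.finrank_fin_fun])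
  obtain ⟨⟨b, hbW⟩, hb, hb0⟩ := Submodule.exists_mem_ne_zero_of_ne_bot hker
  by_contra hno
  push Not at hno
  have hperp : ∀ z ∈ W, (∀ p, polar Q (l p) z = 0) → Q z = 0 := fun z hz h => by
    by_contra hne
    obtain ⟨p, hp⟩ := hno z hz hne
    exact hp (h p)
  obtain ⟨-, y, hy, hby⟩ := hW b hbW (fun h => hb0 (Subtype.ext h))
  set z := y - ∑ p, (polar Q (l p) y / (2 * Q (l p))) • l p with hz
  have hzW : z ∈ W := W.sub_mem hy (W.sum_mem fun p _ => W.smul_mem _ (hl p))
  have hbl : ∀ p, polar Q (l p) b = 0 := fun p => congrFun hb p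
  have hzl : ∀ p, polar Q (l p) z = 0 := fun p => by
    rw [hz, ← polarBilin_apply_apply, map_sub, map_sum, Finset.sum_eq_single p]
    · rw [map_smul, polarBilin_apply_apply, polarBilin_apply_apply, polar_self', smul_eq_mul,
        div_mul_cancel₀ _ (mul_ne_zero h2 (hlQ p)), sub_self]
    · intro q _ hq
      rw [map_smul, polarBilin_apply_apply, hlo p q hq.symm, smul_zero]
    · simp
  have hbz : polar Q b z = polar Q b y := by
    rw [hz, ← polarBilin_apply_apply, map_sub, map_sum, Finset.sum_eq_zero]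
    · simp
    · intro q _
      rw [map_smul, polarBilin_apply_apply, polar_comm Q b (l q), hbl q, smul_zero]
  refine hby (hbz ▸ ?_)
  rw [polar, hperp b hbW hbl, hperp z hzW hzl, hperp (b + z) (W.add_mem hbW hzW) fun p => by
    rw [polar_add_right, hbl p, hzl p, add_zero]]
  ring

/-- an orthogonal family of anisotropic vectors of full size spans -/
theorem exists_coeff (h2 : (2 : F) ≠ 0) {j : ℕ} (l : Fin j → (ι → F)) (hl : ∀ p, l p ∈ W) (hlQ : ∀ p, Q (l p) ≠ 0)
    (hlo : ∀ p q, p ≠ q → polar Q (l p) (l q) = 0) (hj : finrank F W = j) {s : ι → F} (hs : s ∈ W) :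
    ∃ c : Fin j → F, s = ∑ p, c p • l p := by
  have hli : LinearIndependent F l := Fintype.linearIndependent_iff.2 fun g hg p => by
    have h := congrArg (fun v => polarBilin Q (l p) v) hg
    simp only [map_sum, map_smul, map_zero, polarBilin_apply_apply] at h
    rw [Finset.sum_eq_single p (fun q _ hq => by rw [hlo p q hq.symm, smul_zero]) (by simp), polar_self',
      smul_eq_mul] at h
    exact (mul_eq_zero.1 h).resolve_right (mul_ne_zero h2 (hlQ p))
  have : Submodule.span F (Set.range l) = W := Submodule.eq_of_le_of_finrank_eq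
    (by rw [Submodule.span_le]; rintro _ ⟨i, rfl⟩; exact hl i)
    (by rw [finrank_span_eq_card hli, hj, Fintype.card_fin])
  rw [← this, Submodule.mem_span_range_iff_exists_fun] at hs
  obtain ⟨c, hc⟩ := hs
  exact ⟨c, hc.symm⟩

theorem sq_cases (hq : Fintype.card F = 3) (x : F) : x = 0 ∨ x * x = 1 := by
  by_cases hx : x = 0
  · exact Or.inl hx
  · exact Or.inr (by
      have h := FiniteField.pow_card_sub_one_eq_one x hx
      rw [hq] at h; simpa [pow_two] using h)

theorem eq_or_neg (hq : Fintype.card F = 3) {x y : F} (hx : x ≠ 0) (hy : y ≠ 0) : x = y ∨ x = -y :=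
  mul_self_eq_mul_self_iff.1 (((sq_cases hq x).resolve_left hx).trans ((sq_cases hq y).resolve_left hy).symm)

theorem three_eq_zero (hq : Fintype.card F = 3) : (3 : F) = 0 := by
  have := FiniteField.cast_card_eq_zero F
  rw [hq] at this
  exact_mod_cast this

theorem frame_two (h2 : (2 : F) ≠ 0) (hW : Cfsg.Geo.IsNondegenerateOn (QuadraticMap.polar ⇑Q) W)
    (hd : finrank F W = 2) (hq : Fintype.card F = 3) :
    ∃ a ∈ W, Q a ≠ 0 ∧ ∀ s ∈ W, Q s = Q a → s = a ∨ s = -a ∨ polar Q a s = 0 := by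
  obtain ⟨a, ha, hQa, -⟩ := exists_aniso_in hW h2 (![] : Fin 0 → (ι → F)) (by simp) (by simp) (by simp) (by omega)
  obtain ⟨b, hb, hQb, hab⟩ := exists_aniso_in hW h2 ![a] (by simp [ha]) (by simp [hQa])
    (fun p q h => absurd (Subsingleton.elim p q) h) (by omega)
  have hab' : polar Q a b = 0 := hab 0
  refine ⟨a, ha, hQa, fun s hs hsQ => ?_⟩
  obtain ⟨c, rfl⟩ := exists_coeff (Q := Q) h2 ![a, b] (Fin.forall_fin_two.2 ⟨ha, hb⟩) (Fin.forall_fin_two.2 ⟨hQa, hQb⟩)
    (fun p q h => by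
      fin_cases p <;> fin_cases q
      · exact absurd rfl h
      · exact hab'
      · exact (polar_comm Q b a).trans hab'
      · exact absurd rfl h) hd hs
  rw [Fin.sum_univ_two] at hsQ ⊢
  simp only [Matrix.cons_val_zero, Matrix.cons_val_one] at hsQ ⊢
  rw [map_add', map_smul', map_smul', polar_smul_left, polar_smul_right, hab'] at hsQ
  simp only [smul_eq_mul, mul_zero, add_zero] at hsQ
  rcases sq_cases hq (c 0) with h0 | h0
  · refine Or.inr (Or.inr ?_)
    rw [h0, zero_smul, zero_add, polar_smul_right, hab', smul_zero]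
  · rcases sq_cases hq (c 1) with h1 | h1
    · rw [h1, zero_smul, add_zero]
      rcases mul_self_eq_one_iff.1 h0 with h | h <;> rw [h]
      · exact Or.inl (one_smul _ _)
      · exact Or.inr (Or.inl (neg_one_smul _ _))
    · rw [h0, h1, one_mul, one_mul] at hsQ
      exact absurd (by linear_combination hsQ : Q b = 0) hQb

theorem frame_two_five (hW : Cfsg.Geo.IsNondegenerateOn (QuadraticMap.polar ⇑Q) W) (hd : finrank F W = 2)
    (hq : Fintype.card F = 5) (hplus : Cfsg.Geo.IsPlusTypeOn ⇑Q W) :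
    ∃ a ∈ W, Q a ≠ 0 ∧ ∀ s ∈ W, Q s = Q a → s = a ∨ s = -a ∨ polar Q a s = 0 := by
  have h5 : (5 : F) = 0 := by
    have := FiniteField.cast_card_eq_zero F
    rw [hq] at this; exact_mod_cast this
  have h2 : (2 : F) ≠ 0 := fun h => one_ne_zero (α := F) (by linear_combination h5 - 2 * h)
  obtain ⟨U, hUW, hUs, hUd⟩ := hplus
  obtain ⟨e, heU, he0⟩ := U.exists_mem_ne_zero_of_ne_bot fun h => by rw [h, finrank_bot] at hUd; omega
  obtain ⟨f, hf, hQf, hef⟩ := exists_hyp_in hW (hUW heU) he0 (hUs e heU)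
  have hQe : Q e = 0 := hUs e heU
  have ha : Q (e + f) = 1 := by rw [map_add', hQe, hQf, hef]; ring
  have hb : Q (e - f) = -1 := by
    rw [sub_eq_add_neg, map_add', QuadraticMap.map_neg, polar_neg_right, hQe, hQf, hef]; ring
  have hab : polar Q (e + f) (e - f) = 0 := by
    rw [polar_sub_right, polar_add_left, polar_add_left, polar_self', polar_self', hQe, hQf, polar_comm Q f e, hef]
    ring
  refine ⟨e + f, W.add_mem (hUW heU) hf, by rw [ha]; exact one_ne_zero, fun s hs hsQ => ?_⟩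
  obtain ⟨c, rfl⟩ := exists_coeff (Q := Q) h2 ![e + f, e - f] (Fin.forall_fin_two.2 ⟨W.add_mem (hUW heU) hf, W.sub_mem (hUW heU) hf⟩)
    (Fin.forall_fin_two.2 ⟨by simp [ha], by simp [hb]⟩)
    (fun p q h => by
      fin_cases p <;> fin_cases q
      · exact absurd rfl h
      · exact hab
      · exact (polar_comm Q (e - f) (e + f)).trans hab
      · exact absurd rfl h) hd hs
  rw [Fin.sum_univ_two] at hsQ ⊢
  simp only [Matrix.cons_val_zero, Matrix.cons_val_one] at hsQ ⊢
  rw [map_add', map_smul', map_smul', polar_smul_left, polar_smul_right, hab, ha, hb] at hsQ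
  simp only [smul_eq_mul, mul_zero, add_zero, mul_one, mul_neg] at hsQ
  by_cases h0 : c 0 = 0
  · refine Or.inr (Or.inr ?_)
    rw [h0, zero_smul, zero_add, polar_smul_right, hab, smul_zero]
  by_cases h1 : c 1 = 0
  · rw [h1, zero_smul, add_zero]
    rw [h1] at hsQ
    rcases mul_self_eq_one_iff.1 (show c 0 * c 0 = 1 by linear_combination hsQ) with h | h <;> rw [h]
    · exact Or.inl (one_smul _ _)
    · exact Or.inr (Or.inl (neg_one_smul _ _))
  exfalso
  have e0 := FiniteField.pow_card_sub_one_eq_one _ h0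
  have e1 := FiniteField.pow_card_sub_one_eq_one _ h1
  rw [hq] at e0 e1
  norm_num at e0 e1
  have hm : 2 * (c 1 * c 1) = -1 := by
    have : (c 0 * c 0) * (c 0 * c 0) = (1 + c 1 * c 1) * (1 + c 1 * c 1) := by
      rw [show c 0 * c 0 = 1 + c 1 * c 1 by linear_combination hsQ]
    linear_combination -this + e0 - e1
  exact h2 (by linear_combination -(2 * (c 1 * c 1) - 1) * hm + 4 * e1 + h5 - 5 * 0)

/-- in a frame of three lines over three elements only the frame vectors take the value of the frame -/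
theorem frame_three_core (h2 : (2 : F) ≠ 0) (hd : finrank F W = 3) (hq : Fintype.card F = 3) {a b c : ι → F}
    (ha : a ∈ W) (hb : b ∈ W) (hc : c ∈ W) (hQa : Q a ≠ 0) (hQb : Q b = Q a) (hQc : Q c = Q a) (hab : polar Q a b = 0)
    (hac : polar Q a c = 0) (hbc : polar Q b c = 0) {s : ι → F} (hs : s ∈ W) (hsQ : Q s = Q a) :
    s = a ∨ s = -a ∨ polar Q a s = 0 := by
  obtain ⟨x, rfl⟩ := exists_coeff (Q := Q) h2 ![a, b, c] (fun p => by fin_cases p <;> assumption)
    (fun p => by fin_cases p <;> simp [hQa, hQb, hQc])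
    (fun p q h => by
      fin_cases p <;> fin_cases q <;> first
        | exact absurd rfl h
        | assumption
        | exact (polar_comm _ _ _).trans hab
        | exact (polar_comm _ _ _).trans hac
        | exact (polar_comm _ _ _).trans hbc) hd hs
  rw [Fin.sum_univ_three] at hsQ ⊢
  simp only [Matrix.cons_val_zero, Matrix.cons_val_one, Matrix.cons_val] at hsQ ⊢
  rw [map_add', map_add', map_smul', map_smul', map_smul', polar_add_left, polar_smul_left, polar_smul_left,
    polar_smul_left, polar_smul_right, polar_smul_right, polar_smul_right, hab, hac, hbc, hQb, hQc] at hsQ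
  simp only [smul_eq_mul, mul_zero, add_zero] at hsQ
  have hsum : x 0 * x 0 + x 1 * x 1 + x 2 * x 2 = 1 := mul_right_cancel₀ hQa (by linear_combination hsQ)
  rcases sq_cases hq (x 0) with h0 | h0
  · refine Or.inr (Or.inr ?_)
    rw [h0, zero_smul, zero_add, polar_add_right, polar_smul_right, polar_smul_right, hab, hac]
    simp
  rcases sq_cases hq (x 1) with h1 | h1 <;> rcases sq_cases hq (x 2) with h4 | h4
  · rw [h1, h4, zero_smul, zero_smul, add_zero, add_zero]
    rcases mul_self_eq_one_iff.1 h0 with h | h <;> rw [h]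
    · exact Or.inl (one_smul _ _)
    · exact Or.inr (Or.inl (neg_one_smul _ _))
  · rw [h1, h4, h0] at hsum; exact absurd (by linear_combination hsum : (1 : F) = 0) one_ne_zero
  · rw [h1, h4, h0] at hsum; exact absurd (by linear_combination hsum : (1 : F) = 0) one_ne_zero
  · rw [h1, h4, h0] at hsum; exact absurd (by linear_combination hsum : (2 : F) = 0) h2

theorem frame_three_basis (h2 : (2 : F) ≠ 0) (hW : Cfsg.Geo.IsNondegenerateOn (QuadraticMap.polar ⇑Q) W)
    (hd : finrank F W = 3) (hq : Fintype.card F = 3) :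
    ∃ a ∈ W, ∃ b ∈ W, ∃ c ∈ W, Q a ≠ 0 ∧ Q b = Q a ∧ Q c = Q a ∧ polar Q a b = 0 ∧ polar Q a c = 0 ∧ polar Q b c = 0 := by
  have h3 := three_eq_zero hq
  have mix : ∀ a ∈ W, ∀ b ∈ W, ∀ c ∈ W, Q a ≠ 0 → Q b = Q a → Q c ≠ 0 → polar Q a b = 0 → polar Q a c = 0 →
      polar Q b c = 0 → ∃ a' ∈ W, ∃ b' ∈ W, ∃ c' ∈ W, Q a' ≠ 0 ∧ Q b' = Q a' ∧ Q c' = Q a' ∧ polar Q a' b' = 0 ∧
        polar Q a' c' = 0 ∧ polar Q b' c' = 0 := by
    intro a ha b hb c hc hQa hQb hQc hab hac hbc
    rcases eq_or_neg hq hQc hQa with h | h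
    · exact ⟨a, ha, b, hb, c, hc, hQa, hQb, h, hab, hac, hbc⟩
    · have e1 : Q (a + b) = -Q a := by rw [map_add', hQb, hab]; linear_combination Q a * h3
      have e2 : Q (a - b) = -Q a := by
        rw [sub_eq_add_neg, map_add', QuadraticMap.map_neg, polar_neg_right, hQb, hab]; linear_combination Q a * h3
      refine ⟨a + b, W.add_mem ha hb, a - b, W.sub_mem ha hb, c, hc, by rw [e1]; exact neg_ne_zero.2 hQa,
        e2.trans e1.symm, h.trans e1.symm, ?_, ?_, ?_⟩
      · rw [polar_sub_right, polar_add_left, polar_add_left, polar_self', polar_self', hQb, polar_comm Q b a, hab]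
        ring
      · rw [polar_add_left, hac, hbc, add_zero]
      · rw [polar_sub_left, hac, hbc, sub_zero]
  obtain ⟨a, ha, hQa, -⟩ := exists_aniso_in hW h2 (![] : Fin 0 → (ι → F)) (by simp) (by simp) (by simp) (by omega)
  obtain ⟨b, hb, hQb, hab⟩ := exists_aniso_in hW h2 ![a] (by simp [ha]) (by simp [hQa])
    (fun p q h => absurd (Subsingleton.elim p q) h) (by omega)
  have hab' : polar Q a b = 0 := hab 0
  obtain ⟨c, hc, hQc, habc⟩ := exists_aniso_in hW h2 ![a, b] (Fin.forall_fin_two.2 ⟨ha, hb⟩)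
    (Fin.forall_fin_two.2 ⟨hQa, hQb⟩) (fun p q h => by
      fin_cases p <;> fin_cases q
      · exact absurd rfl h
      · exact hab'
      · exact (polar_comm Q b a).trans hab'
      · exact absurd rfl h) (by omega)
  have hac : polar Q a c = 0 := habc 0
  have hbc : polar Q b c = 0 := habc 1
  rcases eq_or_neg hq hQb hQa with h | h
  · exact mix a ha b hb c hc hQa h hQc hab' hac hbc
  rcases eq_or_neg hq hQc hQa with h' | h'
  · exact mix a ha c hc b hb hQa h' hQb hac hab' ((polar_comm _ _ _).trans hbc)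
  · exact mix b hb c hc a ha hQb (h'.trans h.symm) hQa hbc ((polar_comm _ _ _).trans hab') ((polar_comm _ _ _).trans hac)

theorem frame_three (h2 : (2 : F) ≠ 0) (hW : Cfsg.Geo.IsNondegenerateOn (QuadraticMap.polar ⇑Q) W)
    (hd : finrank F W = 3) (hq : Fintype.card F = 3) :
    ∃ a ∈ W, Q a ≠ 0 ∧ ∀ s ∈ W, Q s = Q a → s = a ∨ s = -a ∨ polar Q a s = 0 := by
  obtain ⟨a, ha, b, hb, c, hc, hQa, hQb, hQc, hab, hac, hbc⟩ := frame_three_basis h2 hW hd hq
  exact ⟨a, ha, hQa, fun s hs hsQ => frame_three_core h2 hd hq ha hb hc hQa hQb hQc hab hac hbc hs hsQ⟩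

theorem zero_or_one (hq : Fintype.card F = 2) (x : F) : x = 0 ∨ x = 1 := by
  by_cases hx : x = 0
  · exact Or.inl hx
  · exact Or.inr (by
      have h := FiniteField.pow_card_sub_one_eq_one x hx
      rw [hq] at h; simpa using h)

variable {t k : ℕ} {D : Fin t → Submodule F (ι → F)}

theorem lattice_plus_not_max' (hQ : (polarBilin Q).Nondegenerate) (hn : 7 ≤ Fintype.card ι)
    (hD : Cfsg.Geo.IsOrthogonalMDecomposition ⇑Q 2 D) (hq : Fintype.card F = 2 ∨ Fintype.card F = 4)
    (hplus : ∀ i, Cfsg.Geo.IsPlusTypeOn ⇑Q (D i)) :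
    ∃ K : Subgroup (GL ι F), Cfsg.Geo.decompositionStabilizer D ⊓ Cfsg.Geo.omegaGL ⇑Q < K ∧ K < Cfsg.Geo.omegaGL ⇑Q := by
  classical
  have ht : 4 ≤ t := by have := mul_card_eq hD.decomp.decomp; omega
  have h2 : (2 : F) = 0 := by
    have h := FiniteField.cast_card_eq_zero F
    rcases hq with e | e <;> rw [e] at h
    · exact_mod_cast h
    · exact mul_self_eq_zero.1 (show (2 : F) * 2 = 0 by push_cast at h; linear_combination h)
  have hb : ∀ i, ∃ e ∈ D i, ∃ f ∈ D i, Q e = 0 ∧ Q f = 0 ∧ polar Q e f = 1 ∧ ∀ s ∈ D i, ∃ x y : F, x • e + y • f = s := by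
    intro i
    obtain ⟨U, hUW, hUs, hUd⟩ := hplus i
    obtain ⟨e, heU, he0⟩ := U.exists_mem_ne_zero_of_ne_bot fun h => by
      rw [h, finrank_bot, hD.decomp.decomp.finrank_eq] at hUd; omega
    obtain ⟨f, hf, hQf, hef⟩ := exists_hyp_in (hD.decomp.nondegenerate i) (hUW heU) he0 (hUs e heU)
    have hQe : Q e = 0 := hUs e heU
    refine ⟨e, hUW heU, f, hf, hQe, hQf, hef, fun s hs => ?_⟩
    have hli : LinearIndependent F ![e, f] := by
      rw [LinearIndependent.pair_iff]
      intro a b hab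
      have h1 := congrArg (fun v => polarBilin Q v f) hab
      have h2' := congrArg (fun v => polarBilin Q v e) hab
      simp [polar_self', hef, polar_comm Q f e, hQe, hQf] at h1 h2'
      exact ⟨h1, h2'⟩
    have : Submodule.span F (Set.range ![e, f]) = D i := by
      refine Submodule.eq_of_le_of_finrank_eq ?_ (by rw [finrank_span_eq_card hli, hD.decomp.decomp.finrank_eq]; rfl)
      rw [Submodule.span_le]
      rintro _ ⟨j, rfl⟩
      fin_cases j
      · exact hUW heU
      · exact hf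
    rw [← this, Matrix.range_cons, Matrix.range_cons, Matrix.range_empty, Set.union_empty, Set.singleton_union,
      Submodule.mem_span_pair] at hs
    exact hs
  choose e he f hf hQe hQf hef hsp using hb
  have hval : ∀ i x y, Q (x • e i + y • f i) = x * y := fun i x y => by
    rw [map_add', map_smul', map_smul', polar_smul_left, polar_smul_right, hQe, hQf, hef]; simp
  have hpol' : ∀ i x y x' y', polar Q (x • e i + y • f i) (x' • e i + y' • f i) = x * y' + y * x' := fun i x y x' y' => by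
    simp only [polar_add_left, polar_add_right, polar_smul_left, polar_smul_right, polar_self', hQe, hQf, hef,
      polar_comm Q (f i) (e i), smul_eq_mul]
    ring
  obtain ⟨R, hR01, lam, hlam, hpol⟩ : ∃ R : AddSubgroup F, (∀ r ∈ R, r = 0 ∨ r = 1) ∧ ∃ lam, lam ∉ R ∧
      ∀ x y x' y' : F, x * y = 1 → x' * y' = 1 → x * y' + y * x' ∈ R := by
    rcases hq with e2 | e4
    · refine ⟨⊥, fun r hr => Or.inl hr, 1, fun h => one_ne_zero h, fun x y x' y' hxy hxy' => ?_⟩
      have h1 : ∀ z w : F, z * w = 1 → z = 1 := fun z w h =>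
        (zero_or_one e2 z).resolve_left (left_ne_zero_of_mul_eq_one h)
      rw [AddSubgroup.mem_bot, h1 x y hxy, h1 y x (by rw [mul_comm, hxy]), h1 x' y' hxy',
        h1 y' x' (by rw [mul_comm, hxy'])]
      linear_combination h2
    · let R : AddSubgroup F :=
        { carrier := {r | r = 0 ∨ r = 1}
          zero_mem' := Or.inl rfl
          add_mem' := by
            rintro a b (rfl | rfl) (rfl | rfl)
            · exact Or.inl (add_zero 0)
            · exact Or.inr (zero_add 1)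
            · exact Or.inr (add_zero 1)
            · exact Or.inl (by linear_combination h2)
          neg_mem' := by
            rintro a (rfl | rfl)
            · exact Or.inl neg_zero
            · exact Or.inr (by linear_combination -h2) }
      obtain ⟨lam, -, hlam⟩ := Finset.exists_mem_notMem_of_card_lt_card
        (show (({0, 1} : Finset F)).card < (Finset.univ : Finset F).card by
          have := Finset.card_le_two (a := (0 : F)) (b := 1)
          rw [Finset.card_univ, e4]; omega)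
      refine ⟨R, fun r hr => hr, lam, fun h => hlam (Finset.mem_insert.2 (Or.imp_right Finset.mem_singleton.2 h)), fun x y x' y' hxy hxy' => ?_⟩
      show _ = (0 : F) ∨ _ = (1 : F)
      set z := x * y' with hz
      have hzz : z * (y * x') = 1 := by rw [hz]; linear_combination x' * y' * hxy + hxy'
      have hz3 := FiniteField.pow_card_sub_one_eq_one z (left_ne_zero_of_mul_eq_one hzz)
      rw [e4] at hz3; norm_num at hz3
      have hy : y * x' = z * z := mul_left_cancel₀ (left_ne_zero_of_mul_eq_one hzz) (by linear_combination hzz - hz3)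
      rw [hy]
      by_cases h1 : z = 1
      · rw [h1]; exact Or.inl (by linear_combination h2)
      · refine Or.inr (mul_left_cancel₀ (sub_ne_zero.2 h1) ?_)
        linear_combination hz3 + (1 - z) * h2
  refine lattice_not_max hD hQ (by omega) h2 ht R hR01 lam hlam ?_ (fun i => e i + f i)
    (fun i => ⟨(D i).add_mem (he i) (hf i), by simpa using hval i 1 1⟩)
    (lam • e ⟨2, by omega⟩) ((D _).smul_mem _ (he _)) (by rw [map_smul', hQe, mul_zero]) ?_
  · intro i s hs s' hs' h1 h1'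
    obtain ⟨x, y, rfl⟩ := hsp i s hs
    obtain ⟨x', y', rfl⟩ := hsp i s' hs'
    rw [hval] at h1 h1'
    rw [hpol']
    exact hpol x y x' y' h1 h1'
  · simp [polar_smul_left, polar_add_right, polar_self', hQe, hef]

theorem planes_plus_not_max' (hQ : (polarBilin Q).Nondegenerate) (hn : 9 ≤ Fintype.card ι)
    (hD : Cfsg.Geo.IsOrthogonalMDecomposition ⇑Q 4 D) (hq : Fintype.card F = 2)
    (hplus : ∀ i, Cfsg.Geo.IsPlusTypeOn ⇑Q (D i)) :
    ∃ K : Subgroup (GL ι F), Cfsg.Geo.decompositionStabilizer D ⊓ Cfsg.Geo.omegaGL ⇑Q < K ∧ K < Cfsg.Geo.omegaGL ⇑Q := by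
  have ht : 3 ≤ t := by have := mul_card_eq hD.decomp.decomp; omega
  have h2 : (2 : F) = 0 := by
    have h := FiniteField.cast_card_eq_zero F
    rw [hq] at h; exact_mod_cast h
  have hneg : ∀ z : F, -z = z := fun z => by linear_combination -z * h2
  let i0 : Fin t := ⟨0, by omega⟩
  obtain ⟨U, hUW, hUs, hUd⟩ := hplus i0
  rw [hD.decomp.decomp.finrank_eq] at hUd
  have hW := hD.decomp.nondegenerate i0
  obtain ⟨e₁, he₁U, he₁0⟩ := U.exists_mem_ne_zero_of_ne_bot fun h => by rw [h, finrank_bot] at hUd; omega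
  obtain ⟨f₁, hf₁, hQf₁, h11⟩ := exists_hyp_in hW (hUW he₁U) he₁0 (hUs e₁ he₁U)
  obtain ⟨z, hzU, hz⟩ : ∃ z ∈ U, z ∉ Submodule.span F {e₁} := by
    by_contra! h
    have := Submodule.finrank_mono (show U ≤ Submodule.span F {e₁} from h)
    rw [finrank_span_singleton he₁0] at this; omega
  set e₂ := z - polar Q z f₁ • e₁ with he₂
  have he₂U : e₂ ∈ U := U.sub_mem hzU (U.smul_mem _ he₁U)
  have he₂0 : e₂ ≠ 0 := fun h => hz (by
    rw [he₂, sub_eq_zero] at h; rw [h]; exact Submodule.smul_mem _ _ (Submodule.mem_span_singleton_self e₁))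
  have h2f1 : polar Q e₂ f₁ = 0 := by rw [he₂, polar_sub_left, polar_smul_left, h11, smul_eq_mul, mul_one, sub_self]
  have h12 : polar Q e₁ e₂ = 0 := polar_eq_zero_of_singular hUs he₁U he₂U
  obtain ⟨g, hg, hQg, h2g⟩ := exists_hyp_in hW (hUW he₂U) he₂0 (hUs e₂ he₂U)
  -- make the second pair orthogonal to the first
  set w := g - polar Q g f₁ • e₁ - polar Q g e₁ • f₁ with hw
  have hwW : w ∈ D i0 := (D i0).sub_mem ((D i0).sub_mem hg ((D i0).smul_mem _ (hUW he₁U))) ((D i0).smul_mem _ hf₁)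
  have hQe₁ : Q e₁ = 0 := hUs _ he₁U
  have hQe₂ : Q e₂ = 0 := hUs _ he₂U
  have hw1 : polar Q e₁ w = 0 := by
    rw [hw, polar_sub_right, polar_sub_right, polar_smul_right, polar_smul_right, polar_self', hQe₁, h11,
      polar_comm Q g e₁]; simp
  have hw1' : polar Q f₁ w = 0 := by
    rw [hw, polar_sub_right, polar_sub_right, polar_smul_right, polar_smul_right, polar_self', hQf₁,
      polar_comm Q f₁ e₁, h11, polar_comm Q g f₁]; simp
  have hw2 : polar Q e₂ w = 1 := by
    rw [hw, polar_sub_right, polar_sub_right, polar_smul_right, polar_smul_right, h2g, polar_comm Q e₂ e₁, h12, h2f1]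
    simp
  set f₂ := w + Q w • e₂ with hf₂
  have hf₂W : f₂ ∈ D i0 := (D i0).add_mem hwW ((D i0).smul_mem _ (hUW he₂U))
  have h22 : polar Q e₂ f₂ = 1 := by rw [hf₂, polar_add_right, hw2, polar_smul_right, polar_self', hQe₂]; simp
  have hQf₂ : Q f₂ = 0 := by
    rw [hf₂, map_add_smul, hQe₂, polar_comm Q w, hw2]
    linear_combination Q w * h2
  have h1f2 : polar Q e₁ f₂ = 0 := by rw [hf₂, polar_add_right, hw1, polar_smul_right, h12]; simp
  have hff : polar Q f₁ f₂ = 0 := by
    rw [hf₂, polar_add_right, hw1', polar_smul_right, polar_comm Q f₁ e₂, h2f1]; simp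
  let l : Fin 4 → (ι → F) := ![e₁, f₁, e₂, f₂]
  have hl : ∀ p, l p ∈ D i0 := fun p => by fin_cases p <;> simp [l, hUW he₁U, hf₁, hUW he₂U, hf₂W]
  have hp : ∀ c : Fin 4 → F, polar Q (∑ p, c p • l p) e₁ = c 1 ∧ polar Q (∑ p, c p • l p) f₁ = c 0 ∧
      polar Q (∑ p, c p • l p) e₂ = c 3 ∧ polar Q (∑ p, c p • l p) f₂ = c 2 := fun c => by
    simp [Fin.sum_univ_four, l, polar_add_left, polar_smul_left, polar_self', hQe₁, hQe₂, hQf₁, hQf₂, h11, h22, h12,
      h2f1, h1f2, hff, polar_comm Q f₁ e₁, polar_comm Q f₂ e₂, polar_comm Q e₂ e₁, polar_comm Q f₁ e₂,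
      polar_comm Q f₂ e₁, polar_comm Q f₂ f₁]
  have hli : LinearIndependent F l := Fintype.linearIndependent_iff.2 fun c hc => by
    obtain ⟨a1, a0, a3, a2⟩ := hp c
    rw [hc] at a0 a1 a2 a3
    simp [polar] at a0 a1 a2 a3
    intro p; fin_cases p <;> simp [← a0, ← a1, ← a2, ← a3]
  have hspan : Submodule.span F (Set.range l) = D i0 := Submodule.eq_of_le_of_finrank_eq
    (by rw [Submodule.span_le]; rintro _ ⟨i, rfl⟩; exact hl i)
    (by rw [finrank_span_eq_card hli, hD.decomp.decomp.finrank_eq, Fintype.card_fin])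
  have hval : ∀ c : Fin 4 → F, Q (∑ p, c p • l p) = c 0 * c 1 + c 2 * c 3 := fun c => by
    simp [Fin.sum_univ_four, l, map_add', map_smul', polar_add_left, polar_smul_left, polar_smul_right, hQe₁, hQe₂,
      hQf₁, hQf₂, h11, h22, h12, h1f2, hff, polar_comm Q f₁ e₂, h2f1]
    ring
  refine planes_not_max hD hQ (by omega) h2 ht (e₁ + f₁) (e₁ + e₂ + f₂) (e₁ + f₁ + e₂)
    ((D i0).add_mem (hUW he₁U) hf₁) ((D i0).add_mem ((D i0).add_mem (hUW he₁U) (hUW he₂U)) hf₂W)
    (by simpa [Fin.sum_univ_four, l] using hval ![1, 1, 0, 0])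
    (by simpa [Fin.sum_univ_four, l, add_assoc] using hval ![1, 0, 1, 1]) ?_
    ((D i0).add_mem ((D i0).add_mem (hUW he₁U) hf₁) (hUW he₂U)) ?_ ?_ ?_ ?_
  · simp [polar_add_left, polar_add_right, polar_self', hQe₁, h11, h12, h1f2, hff, polar_comm Q f₁ e₁,
      polar_comm Q f₁ e₂, h2f1]
  · intro h
    obtain ⟨a1, -, -, -⟩ := hp ![1, 1, 1, 0]
    rw [show ∑ p, (![1, 1, 1, 0] : Fin 4 → F) p • l p = e₁ + f₁ + e₂ by simp [Fin.sum_univ_four, l], h] at a1
    simp [polar] at a1
  · simp [polar_add_left, polar_add_right, polar_self', hQe₁, hQf₁, h11, h12, h2f1, polar_comm Q f₁ e₁,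
      polar_comm Q e₂ e₁]
    linear_combination h2
  · simp [polar_add_left, polar_add_right, polar_self', hQe₁, hQe₂, hQf₁, h11, h12, h22, h2f1, h1f2, hff,
      polar_comm Q f₁ e₁, polar_comm Q e₂ e₁, polar_comm Q f₁ e₂]
    linear_combination h2
  · intro s hs h1
    rw [← hspan, Submodule.mem_span_range_iff_exists_fun] at hs
    obtain ⟨c, rfl⟩ := hs
    rw [hval] at h1
    obtain ⟨a1, a0, a3, a2⟩ := hp c
    rw [polar_add_right, polar_add_right, polar_add_right, a0, a1, a2, a3]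
    simp only [Fin.sum_univ_four, l, Matrix.cons_val_zero, Matrix.cons_val_one, Matrix.cons_val]
    have h11' : (1 : F) + 1 = 0 := by linear_combination h2
    have hv : ∀ u : ι → F, u + u = 0 := fun u => funext fun i => by
      show u i + u i = 0
      linear_combination u i * h2
    have hv' : ∀ u v : ι → F, u + (u + v) = v := fun u v => by rw [← add_assoc, hv, zero_add]
    rcases zero_or_one hq (c 0) with x0 | x0 <;> rcases zero_or_one hq (c 1) with x1 | x1 <;>
      rcases zero_or_one hq (c 2) with x2 | x2 <;> rcases zero_or_one hq (c 3) with x3 | x3 <;>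
      rw [x0, x1, x2, x3] at h1 ⊢ <;> simp [h11', hv', hv, add_assoc, add_left_comm] at h1 ⊢

end Cfsg.Agent.NotMax

namespace Cfsg.Agent.NotMax

open Module QuadraticMap

variable {ι : Type} [Fintype ι] [DecidableEq ι] {F : Type*} [Field F] [Fintype F] {Q : QuadraticForm F (ι → F)}
variable {t k : ℕ} {D : Fin t → Submodule F (ι → F)}

theorem small_frame_not_max' (hQ : (polarBilin Q).Nondegenerate) (ht : 5 ≤ t)
    (hD : Cfsg.Geo.IsOrthogonalMDecomposition ⇑Q k D) (hk : k = 2 ∨ k = 3) (hq : Fintype.card F = 3) :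
    ∃ K : Subgroup (GL ι F), Cfsg.Geo.decompositionStabilizer D ⊓ Cfsg.Geo.omegaGL ⇑Q < K ∧ K < Cfsg.Geo.omegaGL ⇑Q := by
  have h2 : (2 : F) ≠ 0 := fun h => one_ne_zero (α := F) (by linear_combination three_eq_zero hq - h)
  let i0 : Fin t := ⟨0, by omega⟩
  have hd := hD.decomp.decomp.finrank_eq i0
  rcases hk with rfl | rfl
  · obtain ⟨a, ha, hQa, hfr⟩ := frame_two h2 (hD.decomp.nondegenerate i0) hd hq
    exact frame_not_max hD hQ h2 ht le_rfl hQa a ha rfl hfr
  · obtain ⟨a, ha, hQa, hfr⟩ := frame_three h2 (hD.decomp.nondegenerate i0) hd hq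
    exact frame_not_max hD hQ h2 ht (by omega) hQa a ha rfl hfr

theorem five_frame_not_max' (hQ : (polarBilin Q).Nondegenerate) (hn : 9 ≤ Fintype.card ι)
    (hD : Cfsg.Geo.IsOrthogonalMDecomposition ⇑Q 2 D) (hplus : ∀ i, Cfsg.Geo.IsPlusTypeOn ⇑Q (D i))
    (hq : Fintype.card F = 5) :
    ∃ K : Subgroup (GL ι F), Cfsg.Geo.decompositionStabilizer D ⊓ Cfsg.Geo.omegaGL ⇑Q < K ∧ K < Cfsg.Geo.omegaGL ⇑Q := by
  have hcard := mul_card_eq hD.decomp.decomp
  have h2 : (2 : F) ≠ 0 := fun h => by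
    have := FiniteField.cast_card_eq_zero F
    rw [hq] at this
    push_cast at this
    exact one_ne_zero (α := F) (by linear_combination this - 2 * h)
  let i0 : Fin t := ⟨0, by omega⟩
  obtain ⟨a, ha, hQa, hfr⟩ := frame_two_five (hD.decomp.nondegenerate i0) (hD.decomp.decomp.finrank_eq i0) hq (hplus i0)
  exact frame_not_max hD hQ h2 (by omega) le_rfl hQa a ha rfl hfr

theorem lattice_plus_not_max (hQ : (polarBilin Q).Nondegenerate) (hn : 13 ≤ Fintype.card ι)
    (hD : Cfsg.Geo.IsOrthogonalMDecomposition ⇑Q 2 D) (hq : Fintype.card F = 2 ∨ Fintype.card F = 4)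
    (hplus : ∀ i, Cfsg.Geo.IsPlusTypeOn ⇑Q (D i)) :
    ∃ K : Subgroup (GL ι F), Cfsg.Geo.decompositionStabilizer D ⊓ Cfsg.Geo.omegaGL ⇑Q < K ∧ K < Cfsg.Geo.omegaGL ⇑Q :=
  lattice_plus_not_max' hQ (by omega) hD hq hplus

theorem planes_plus_not_max (hQ : (polarBilin Q).Nondegenerate) (hn : 13 ≤ Fintype.card ι)
    (hD : Cfsg.Geo.IsOrthogonalMDecomposition ⇑Q 4 D) (hq : Fintype.card F = 2)
    (hplus : ∀ i, Cfsg.Geo.IsPlusTypeOn ⇑Q (D i)) :
    ∃ K : Subgroup (GL ι F), Cfsg.Geo.decompositionStabilizer D ⊓ Cfsg.Geo.omegaGL ⇑Q < K ∧ K < Cfsg.Geo.omegaGL ⇑Q :=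
  planes_plus_not_max' hQ (by omega) hD hq hplus

theorem small_frame_not_max (hQ : (polarBilin Q).Nondegenerate) (hn : 13 ≤ Fintype.card ι)
    (hD : Cfsg.Geo.IsOrthogonalMDecomposition ⇑Q k D) (hk : k = 2 ∨ k = 3) (hq : Fintype.card F = 3) :
    ∃ K : Subgroup (GL ι F), Cfsg.Geo.decompositionStabilizer D ⊓ Cfsg.Geo.omegaGL ⇑Q < K ∧ K < Cfsg.Geo.omegaGL ⇑Q := by
  refine small_frame_not_max' hQ ?_ hD hk hq
  have := mul_card_eq hD.decomp.decomp
  rcases hk with rfl | rfl <;> omega

theorem five_frame_not_max (hQ : (polarBilin Q).Nondegenerate) (hn : 13 ≤ Fintype.card ι)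
    (hD : Cfsg.Geo.IsOrthogonalMDecomposition ⇑Q 2 D) (hplus : ∀ i, Cfsg.Geo.IsPlusTypeOn ⇑Q (D i))
    (hq : Fintype.card F = 5) :
    ∃ K : Subgroup (GL ι F), Cfsg.Geo.decompositionStabilizer D ⊓ Cfsg.Geo.omegaGL ⇑Q < K ∧ K < Cfsg.Geo.omegaGL ⇑Q :=
  five_frame_not_max' hQ (by omega) hD hplus hq

end Cfsg.Agent.NotMax
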