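import Cfsg.Agent.NotMax.Parts

/-!
Unitary groups over the field with four elements: transvections, and the stabiliser of an orthogonal
decomposition into planes, which preserves a frame and so is not maximal.
-/

set_option autoImplicit false
set_option linter.unusedSectionVars false

namespace Cfsg.Agent.NotMax

open Module Cfsg.Agent.ClassicalMax

variable {ι : Type} [Fintype ι] [DecidableEq ι] {F : Type*} [Field F] [Fintype F]

theorem two_zero_of_four (hq : Fintype.card F = 4) : (2 : F) = 0 := by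
  have h := FiniteField.cast_card_eq_zero F
  rw [hq] at h; push_cast at h
  exact mul_self_eq_zero.1 (show (2 : F) * 2 = 0 by linear_combination h)

theorem pow_four (hq : Fintype.card F = 4) (x : F) : x ^ 4 = x := by
  have := FiniteField.pow_card x
  rwa [hq] at this

theorem zero_or_one_of_sq (x : F) (h : x = x ^ 2) : x = 0 ∨ x = 1 := by
  rcases mul_eq_zero.1 (show x * (x - 1) = 0 by linear_combination -h) with h | h
  · exact Or.inl h
  · exact Or.inr (sub_eq_zero.1 h)

theorem exists_omega_four (hq : Fintype.card F = 4) : ∃ c : F, c ≠ 0 ∧ c ≠ 1 ∧ c ^ 2 + c + 1 = 0 := by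
  classical
  obtain ⟨c, -, hc⟩ := Finset.exists_mem_notMem_of_card_lt_card
    (show (({0, 1} : Finset F)).card < (Finset.univ : Finset F).card by
      have := Finset.card_le_two (a := (0 : F)) (b := 1)
      rw [Finset.card_univ, hq]; omega)
  simp at hc
  refine ⟨c, hc.1, hc.2, ?_⟩
  have h4 := pow_four hq c
  rcases mul_eq_zero.1 (show c * ((c - 1) * (c ^ 2 + c + 1)) = 0 by linear_combination h4) with h | h
  · exact absurd h hc.1
  · exact (mul_eq_zero.1 h).resolve_left (sub_ne_zero.2 hc.2)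

variable {f : (ι → F) → (ι → F) → F}

/-- the linear form `x ↦ f x w` -/
def formDual (hf : Cfsg.Geo.IsUnitaryFormPow 2 f) (w : ι → F) : Dual F (ι → F) where
  toFun x := f x w
  map_add' x y := hf.add_left x y w
  map_smul' c x := hf.smul_left c x w

theorem form_add_right (hq : Fintype.card F = 4) (hf : Cfsg.Geo.IsUnitaryFormPow 2 f) (u v w : ι → F) :
    f u (v + w) = f u v + f u w := by
  rw [hf.herm u, hf.add_left, hf.herm u v, hf.herm u w]
  linear_combination f v u * f w u * two_zero_of_four hq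

theorem form_smul_right (hf : Cfsg.Geo.IsUnitaryFormPow 2 f) (c : F) (u v : ι → F) :
    f u (c • v) = c ^ 2 * f u v := by rw [hf.herm u, hf.smul_left, hf.herm u v, mul_pow]

theorem exists_utv (hq : Fintype.card F = 4) (hf : Cfsg.Geo.IsUnitaryFormPow 2 f) (G : Subgroup (GL ι F))
    (hG : ∀ g : GL ι F, (∀ u v, f ((g : Matrix ι ι F).mulVec u) ((g : Matrix ι ι F).mulVec v) = f u v) →
      g ∈ Cfsg.Geo.specialLinear ι F → g ∈ G)
    {w : ι → F} (hw : f w w = 0) : ∃ g ∈ G, ∀ x, (g : Matrix ι ι F).mulVec x = x + f x w • w := by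
  have hz : formDual hf w w = 0 := hw
  refine ⟨(glEquiv ι F).symm (tvec (formDual hf w) w), hG _ (fun u v => ?_) (tvec_mem_specialLinear _ _),
    fun x => by rw [symm_mulVec, tvec_apply hz]; rfl⟩
  rw [symm_mulVec, symm_mulVec, tvec_apply hz, tvec_apply hz]
  show f (u + f u w • w) (v + f v w • w) = f u v
  rw [hf.add_left, form_add_right hq hf, form_add_right hq hf, hf.smul_left, hf.smul_left, form_smul_right hf,
    form_smul_right hf, hw]
  have h := hf.herm w v
  rw [h]
  linear_combination f u w * f v w ^ 2 * two_zero_of_four hq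

theorem exists_norm_one (hq : Fintype.card F = 4) (hf : Cfsg.Geo.IsUnitaryFormPow 2 f) (W : Submodule F (ι → F))
    (hW : Cfsg.Geo.IsNondegenerateOn f W) {x : ι → F} (hx : x ∈ W) (hx0 : x ≠ 0) : ∃ a ∈ W, f a a = 1 := by
  by_contra! h
  have h0 : ∀ v ∈ W, f v v = 0 := fun v hv => (zero_or_one_of_sq _ (hf.herm v v)).resolve_right (h v hv)
  obtain ⟨-, y, hy, hxy⟩ := hW x hx hx0
  have key : ∀ z ∈ W, f x z + f x z ^ 2 = 0 := fun z hz => by
    have := h0 _ (W.add_mem hx hz)
    rw [hf.add_left, form_add_right hq hf, form_add_right hq hf, h0 x hx, h0 z hz, hf.herm z x] at this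
    linear_combination this
  obtain ⟨c, hc0, hc1, -⟩ := exists_omega_four hq
  have h1 : ∀ z ∈ W, f x z ≠ 0 → f x z = 1 := fun z hz hne => by
    refine (zero_or_one_of_sq _ ?_).resolve_left hne
    linear_combination key z hz - f x z ^ 2 * two_zero_of_four hq
  have h2 := h1 _ (W.smul_mem c hy) (by rw [form_smul_right hf]; exact mul_ne_zero (pow_ne_zero 2 hc0) hxy)
  rw [form_smul_right hf, h1 y hy hxy, mul_one] at h2
  have h4 := pow_four hq c
  exact hc1 (by linear_combination -h4 + (c ^ 2 + 1) * h2)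

theorem plane_frame (hq : Fintype.card F = 4) (hf : Cfsg.Geo.IsUnitaryFormPow 2 f) (W : Submodule F (ι → F))
    (hW : Cfsg.Geo.IsNondegenerateOn f W) (hd : finrank F W = 2) :
    ∃ a ∈ W, f a a = 1 ∧ (∃ b ∈ W, f b a = 0 ∧ f b b = 1) ∧
      ∀ s ∈ W, f s s = 1 → (∃ c : F, s = c • a) ∨ f s a = 0 := by
  obtain ⟨x, hx, hx0⟩ := W.exists_mem_ne_zero_of_ne_bot fun h => by rw [h, finrank_bot] at hd; omega
  obtain ⟨a, ha, haa⟩ := exists_norm_one hq hf W hW hx hx0
  obtain ⟨⟨b, hbW⟩, hb, hb0⟩ := Submodule.exists_mem_ne_zero_of_ne_bot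
    (show LinearMap.ker ((formDual hf a).domRestrict W) ≠ ⊥ from
      LinearMap.ker_ne_bot_of_finrank_lt (by rw [Module.finrank_self, hd]; omega))
  have hb0' : b ≠ 0 := fun h => hb0 (Subtype.ext h)
  have hba : f b a = 0 := hb
  have hab : f a b = 0 := by rw [hf.herm, hba]; ring
  have hli : LinearIndependent F ![a, b] := by
    rw [LinearIndependent.pair_iff]
    intro c d hcd
    have h := congrArg (formDual hf a) hcd
    simp [formDual, hf.add_left, hf.smul_left, haa, hba] at h
    have hz : f 0 a = 0 := by simpa using hf.smul_left 0 a a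
    rw [hz] at h
    refine ⟨h, ?_⟩
    rw [h, zero_smul, zero_add] at hcd
    exact (smul_eq_zero.1 hcd).resolve_right hb0'
  have hspan : ∀ s ∈ W, ∃ c d : F, c • a + d • b = s := fun s hs => by
    have : Submodule.span F (Set.range ![a, b]) = W := by
      refine Submodule.eq_of_le_of_finrank_eq ?_ (by rw [finrank_span_eq_card hli, hd]; rfl)
      rw [Submodule.span_le]
      rintro _ ⟨i, rfl⟩
      fin_cases i
      · exact ha
      · exact hbW
    rw [← this, Matrix.range_cons, Matrix.range_cons, Matrix.range_empty, Set.union_empty, Set.singleton_union,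
      Submodule.mem_span_pair] at hs
    exact hs
  have hbb : f b b = 1 := by
    refine (zero_or_one_of_sq _ (hf.herm b b)).resolve_left fun h0 => ?_
    obtain ⟨⟨y, hy, hne⟩, -⟩ := hW b hbW hb0'
    obtain ⟨c, d, rfl⟩ := hspan y hy
    exact hne (by rw [hf.add_left, hf.smul_left, hf.smul_left, hab, h0]; ring)
  refine ⟨a, ha, haa, ⟨b, hbW, hba, hbb⟩, fun s hs hss => ?_⟩
  obtain ⟨c, d, rfl⟩ := hspan s hs
  rw [hf.add_left, hf.smul_left, hf.smul_left, form_add_right hq hf, form_add_right hq hf, form_smul_right hf,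
    form_smul_right hf, form_smul_right hf, form_smul_right hf, haa, hab, hba, hbb] at hss
  by_cases hc : c = 0
  · exact Or.inr (by rw [hf.add_left, hf.smul_left, hf.smul_left, hba, hc]; ring)
  by_cases hd' : d = 0
  · exact Or.inl ⟨c, by rw [hd', zero_smul, add_zero]⟩
  have c3 : c ^ 3 = 1 := by
    have := FiniteField.pow_card_sub_one_eq_one c hc
    rwa [hq] at this
  have d3 : d ^ 3 = 1 := by
    have := FiniteField.pow_card_sub_one_eq_one d hd'
    rwa [hq] at this
  exact absurd (by linear_combination hss - c3 - d3 : (1 : F) = 0) one_ne_zero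

theorem unitary_decomp_not_max (hq : Fintype.card F = 4) (hf : Cfsg.Geo.IsUnitaryFormPow 2 f) (G : Subgroup (GL ι F))
    (hG : ∀ g : GL ι F, (∀ u v, f ((g : Matrix ι ι F).mulVec u) ((g : Matrix ι ι F).mulVec v) = f u v) →
      g ∈ Cfsg.Geo.specialLinear ι F → g ∈ G)
    (hGf : ∀ g ∈ G, ∀ u v, f ((g : Matrix ι ι F).mulVec u) ((g : Matrix ι ι F).mulVec v) = f u v)
    {t : ℕ} {D : Fin t → Submodule F (ι → F)} (hD : Cfsg.Geo.IsNondegenerateMDecomposition f 2 D) (ht : 4 ≤ t) :
    ∃ K : Subgroup (GL ι F), Cfsg.Geo.decompositionStabilizer D ⊓ G < K ∧ K < G := by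
  obtain ⟨p, hp⟩ := exists_parts hD.decomp
  have key := fun i => plane_frame hq hf (D i) (hD.nondegenerate i) (hD.decomp.finrank_eq i)
  choose a ha haa hbx hfr using key
  let I : Fin 4 → Fin t := fun j => ⟨j, by omega⟩
  have hI : ∀ c d : Fin 4, c ≠ d → I c ≠ I d := fun c d h e => h (Fin.ext (by simpa [I] using congrArg Fin.val e))
  have horth : ∀ i j, i ≠ j → ∀ u ∈ D i, ∀ v ∈ D j, f u v = 0 := fun i j h => hD.orthogonal i j h
  have h2 := two_zero_of_four hq
  have hneg : ∀ z : ι → F, z + z = 0 := fun z => funext fun i => by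
    show z i + z i = 0
    linear_combination z i * h2
  let A := fun j => a (I j)
  have hA : ∀ j, A j ∈ D (I j) := fun j => ha _
  have hAo : ∀ c d, c ≠ d → f (A c) (A d) = 0 := fun c d h => horth _ _ (hI c d h) _ (hA c) _ (hA d)
  have hA0 : ∀ j, A j ≠ 0 := fun j h => one_ne_zero ((haa (I j)).symm.trans (show f (A j) (A j) = 0 by
    rw [h]; simpa using hf.smul_left 0 (A j) 0))
  set w := A 0 + A 1 with hw
  have hww : f w w = 0 := by
    rw [hw, hf.add_left, form_add_right hq hf, form_add_right hq hf, hAo 0 1 (by decide), hAo 1 0 (by decide), haa, haa]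
    linear_combination h2
  set z := A 0 + A 1 + A 2 + A 3 with hz
  have hzA : f (A 0) z = 1 := by
    rw [hz, form_add_right hq hf, form_add_right hq hf, form_add_right hq hf, haa, hAo 0 1 (by decide),
      hAo 0 2 (by decide), hAo 0 3 (by decide)]
    ring
  have hzz : f z z = 0 := by
    rw [hz]
    simp only [hf.add_left, form_add_right hq hf, haa, hAo 0 1 (by decide), hAo 0 2 (by decide), hAo 0 3 (by decide),
      hAo 1 0 (by decide), hAo 1 2 (by decide), hAo 1 3 (by decide), hAo 2 0 (by decide), hAo 2 1 (by decide),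
      hAo 2 3 (by decide), hAo 3 0 (by decide), hAo 3 1 (by decide), hAo 3 2 (by decide), A]
    linear_combination 2 * h2
  obtain ⟨g1, hg1, hg1e⟩ := exists_utv hq hf G hG hww
  obtain ⟨g2, hg2, hg2e⟩ := exists_utv hq hf G hG hzz
  obtain ⟨b, hb, hba, hbb⟩ := hbx (I 0)
  refine exists_between G _ {v | ∃ i, v ∈ D i ∧ f v v = 1} (fun g hgM hgG v hv => ?_) ⟨g1, hg1, fun v hv => ?_, fun hM => ?_⟩
    ⟨g2, hg2, A 0, ⟨I 0, hA 0, haa _⟩, ?_⟩
  · obtain ⟨σ, hσ⟩ := hgM
    obtain ⟨i, hi, hv1⟩ := hv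
    exact ⟨σ i, hσ i ▸ ⟨v, hi, Matrix.toLin'_apply _ _⟩, (hGf g hgG v v).trans hv1⟩
  · obtain ⟨i, hi, hv1⟩ := hv
    suffices h : ∃ j, (g1 : Matrix ι ι F).mulVec v ∈ D j by
      obtain ⟨j, hj⟩ := h; exact ⟨j, hj, (hGf g1 hg1 v v).trans hv1⟩
    rw [hg1e, hw, form_add_right hq hf]
    by_cases h0 : i = I 0
    · subst h0
      rw [horth _ _ (hI 0 1 (by decide)) _ hi _ (hA 1), add_zero]
      rcases hfr (I 0) v hi hv1 with ⟨c, rfl⟩ | h
      · refine ⟨I 1, ?_⟩
        rw [hf.smul_left, haa, mul_one, ← smul_add, ← add_assoc, hneg, zero_add]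
        exact (D _).smul_mem c (hA 1)
      · exact ⟨I 0, by rw [h, zero_smul, add_zero]; exact hi⟩
    by_cases h1 : i = I 1
    · subst h1
      rw [horth _ _ h0 _ hi _ (hA 0), zero_add]
      rcases hfr (I 1) v hi hv1 with ⟨c, rfl⟩ | h
      · refine ⟨I 0, ?_⟩
        rw [hf.smul_left, haa, mul_one, ← smul_add, add_comm (A 0) (A 1), ← add_assoc, hneg, zero_add]
        exact (D _).smul_mem c (hA 0)
      · exact ⟨I 1, by rw [h, zero_smul, add_zero]; exact hi⟩
    · exact ⟨i, by rw [horth _ _ h0 _ hi _ (hA 0), horth _ _ h1 _ hi _ (hA 1), add_zero, zero_smul, add_zero]; exact hi⟩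
  · obtain ⟨σ, hσ⟩ := hM
    have h := hσ (I 0) ▸ (Submodule.mem_map_of_mem ((D (I 0)).add_mem (hA 0) hb) :
      Matrix.toLin' (g1 : Matrix ι ι F) (A 0 + b) ∈ _)
    have e : f (A 0 + b) w = 1 := by
      rw [hw, hf.add_left, form_add_right hq hf, form_add_right hq hf, haa, hba, hAo 0 1 (by decide),
        horth _ _ (hI 0 1 (by decide)) _ hb _ (hA 1)]
      ring
    rw [Matrix.toLin'_apply, hg1e, e, one_smul, hw,
      show A 0 + b + (A 0 + A 1) = b + A 1 + (A 0 + A 0) by abel, hneg, add_zero] at h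
    refine notMem_of_parts hp (hI 0 1 (by decide)) ?_ ?_ _ h
    · rw [map_add, hp.same _ _ hb, hp.other _ _ (hI 1 0 (by decide)) _ (hA 1), add_zero]
      intro hb0
      rw [hb0] at hbb
      exact one_ne_zero (hbb.symm.trans (by simpa using hf.smul_left 0 b 0))
    · rw [map_add, hp.other _ _ (hI 0 1 (by decide)) _ hb, hp.same _ _ (hA 1), zero_add]
      exact hA0 1
  · rintro ⟨l, hl, -⟩
    rw [hg2e, hzA, one_smul, hz, show A 0 + (A 0 + A 1 + A 2 + A 3) = A 1 + A 2 + A 3 + (A 0 + A 0) by abel, hneg,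
      add_zero] at hl
    refine notMem_of_parts hp (hI 1 2 (by decide)) ?_ ?_ _ hl
    · simp only [map_add, hp.same _ _ (hA 1), hp.other _ _ (hI 2 1 (by decide)) _ (hA 2),
        hp.other _ _ (hI 3 1 (by decide)) _ (hA 3), add_zero]
      exact hA0 1
    · simp only [map_add, hp.same _ _ (hA 2), hp.other _ _ (hI 1 2 (by decide)) _ (hA 1),
        hp.other _ _ (hI 3 2 (by decide)) _ (hA 3), add_zero, zero_add]
      exact hA0 2

theorem hermForm_unitaryPow {n : ℕ} (hq : Fintype.card F = 4) :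
    Cfsg.Geo.IsUnitaryFormPow 2 (Cfsg.hermForm n F 2) where
  add_left := fun x y v => by simp [Cfsg.hermForm, add_mul, Finset.sum_add_distrib]
  smul_left := fun c x v => by simp [Cfsg.hermForm, Finset.mul_sum, mul_assoc]
  herm := fun v w => by
    have h2 := two_zero_of_four hq
    haveI : CharP F 2 := (CharP.charP_iff_prime_eq_zero Nat.prime_two).2 (by exact_mod_cast h2)
    simp only [Cfsg.hermForm]
    rw [CharTwo.sum_sq]
    exact Finset.sum_congr rfl fun i _ => by rw [mul_pow, ← pow_mul]; rw [pow_four hq]; ring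
  nondegenerate := fun v hv => by
    obtain ⟨i, hi⟩ := Function.ne_iff.1 hv
    refine ⟨⟨Pi.single i 1, ?_⟩, ⟨Pi.single i 1, ?_⟩⟩
    · simpa [Cfsg.hermForm, Pi.single_apply] using hi
    · simpa [Cfsg.hermForm, Pi.single_apply] using hi

end Cfsg.Agent.NotMax
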