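import Cfsg.Agent.NotMax.TensorFrame
import Cfsg.Agent.NotMax.UnitaryFrame
import Cfsg.Agent.NotMax.Blocks
import Cfsg.Agent.Classical.SympGroup

/-!
The four tensor cases with a frame: unitary factor of dimension two over four elements, symmetric factor of
dimension three over three elements.
-/

set_option autoImplicit false
set_option linter.unusedSectionVars false

namespace Cfsg.Agent.NotMax

open Module QuadraticMap Cfsg.Agent.ClassicalMax Cfsg.Agent.Classical Cfsg.Agent.Classical.Quad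

variable {ι : Type} [Fintype ι] [DecidableEq ι] {F : Type*} [Field F] [Fintype F]

theorem bilinear_formOfGram {κ : Type} [Fintype κ] [DecidableEq κ] {f : (κ → F) → (κ → F) → F}
    (hf : Cfsg.Geo.IsBilinearForm f) (x y : κ → F) :
    Cfsg.Geo.formOfGram id (Cfsg.Geo.gramMatrix f) x y = f x y :=
  formOfGram_bilinear id hf.add_left hf.smul_left hf.add_right (fun c v x => hf.smul_right c v x) x y

theorem unitary_formOfGram (hq : Fintype.card F = 4) {κ : Type} [Fintype κ] [DecidableEq κ]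
    {f : (κ → F) → (κ → F) → F} (hf : Cfsg.Geo.IsUnitaryFormPow 2 f) (x y : κ → F) :
    Cfsg.Geo.formOfGram (fun a : F => a ^ 2) (Cfsg.Geo.gramMatrix f) x y = f x y :=
  formOfGram_bilinear _ hf.add_left hf.smul_left (form_add_right hq hf) (fun c v x => form_smul_right hf c v x) x y

/-- the symmetric factor over three elements has a frame fixed by all similitudes -/
theorem exists_frame_three (hq : Fintype.card F = 3) {s : (Fin 3 → F) → (Fin 3 → F) → F}
    (hs : Cfsg.Geo.IsSymmetricForm s) :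
    ∃ e : Fin 3 → (Fin 3 → F), (∀ x, ∃ d : Fin 3 → F, x = ∑ i, d i • e i) ∧
      (∀ i j, i ≠ j → s (e i) (e j) = 0) ∧ (∀ i, s (e i) (e i) ≠ 0) ∧
      ∀ (a : (Fin 3 → F) → (Fin 3 → F)), ∀ ν : F, ν ≠ 0 → (∀ x x', s (a x) (a x') = ν * s x x') →
        ∀ i, ∃ j, ∃ d : F, a (e i) = d • e j := by
  have h3 := three_eq_zero hq
  have h2 : (2 : F) ≠ 0 := fun h => one_ne_zero (α := F) (by linear_combination h3 - h)
  let B : LinearMap.BilinForm F (Fin 3 → F) := LinearMap.mk₂ F s hs.bilinear.add_left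
    (fun c x y => by rw [hs.bilinear.smul_left, smul_eq_mul]) hs.bilinear.add_right
    (fun c x y => by rw [hs.bilinear.smul_right, smul_eq_mul])
  let q : QuadraticForm F (Fin 3 → F) := LinearMap.BilinMap.toQuadraticMap B
  have hq' : ∀ x, q x = s x x := fun x => rfl
  have hpol : ∀ x y, polar q x y = 2 * s x y := fun x y => by
    simp only [polar, hq', hs.bilinear.add_left, hs.bilinear.add_right, hs.symm y x]; ring
  have hnd : Cfsg.Geo.IsNondegenerateOn (QuadraticMap.polar ⇑q) (⊤ : Submodule F (Fin 3 → F)) := fun w _ hw => by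
    obtain ⟨⟨x, hx⟩, y, hy⟩ := hs.nondegenerate w hw
    exact ⟨⟨x, trivial, by rw [hpol]; exact mul_ne_zero h2 hx⟩, ⟨y, trivial, by rw [hpol]; exact mul_ne_zero h2 hy⟩⟩
  have hd : finrank F (⊤ : Submodule F (Fin 3 → F)) = 3 := by rw [finrank_top, Module.finrank_fin_fun]
  obtain ⟨e, η, hη, he, ho⟩ : ∃ (e : Fin 3 → (Fin 3 → F)) (η : F), η ≠ 0 ∧ (∀ i, q (e i) = η) ∧
      ∀ i j, i ≠ j → polar q (e i) (e j) = 0 := by
    have make : ∀ a b c : Fin 3 → F, q a ≠ 0 → q b = q a → q c ≠ 0 → polar q a b = 0 → polar q a c = 0 →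
        polar q b c = 0 → ∃ (e : Fin 3 → (Fin 3 → F)) (η : F), η ≠ 0 ∧ (∀ i, q (e i) = η) ∧
          ∀ i j, i ≠ j → polar q (e i) (e j) = 0 := by
      intro a b c hQa hQb hQc hab hac hbc
      rcases eq_or_neg hq hQc hQa with h | h
      · refine ⟨![a, b, c], q a, hQa, fun i => by fin_cases i <;> simp [hQb, h], fun i j hij => ?_⟩
        fin_cases i <;> fin_cases j <;> first
          | exact absurd rfl hij
          | assumption
          | exact (polar_comm _ _ _).trans hab
          | exact (polar_comm _ _ _).trans hac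
          | exact (polar_comm _ _ _).trans hbc
      · have e1 : q (a + b) = -q a := by rw [map_add', hQb, hab]; linear_combination q a * h3
        have e2 : q (a - b) = -q a := by
          rw [sub_eq_add_neg, map_add', QuadraticMap.map_neg, polar_neg_right, hQb, hab]; linear_combination q a * h3
        have f1 : polar q (a + b) (a - b) = 0 := by
          rw [polar_sub_right, polar_add_left, polar_add_left, polar_self', polar_self', hQb, polar_comm q b a, hab]
          ring
        have f2 : polar q (a + b) c = 0 := by rw [polar_add_left, hac, hbc, add_zero]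
        have f3 : polar q (a - b) c = 0 := by rw [polar_sub_left, hac, hbc, sub_zero]
        refine ⟨![a + b, a - b, c], -q a, neg_ne_zero.2 hQa, fun i => by fin_cases i <;> simp [e1, e2, h],
          fun i j hij => ?_⟩
        fin_cases i <;> fin_cases j <;> first
          | exact absurd rfl hij
          | assumption
          | exact (polar_comm _ _ _).trans f1
          | exact (polar_comm _ _ _).trans f2
          | exact (polar_comm _ _ _).trans f3
    obtain ⟨a, ha, hQa, -⟩ := exists_aniso_in hnd h2 (![] : Fin 0 → (Fin 3 → F)) (by simp) (by simp) (by simp) (by omega)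
    obtain ⟨b, hb, hQb, hab⟩ := exists_aniso_in hnd h2 ![a] (by simp) (by simp [hQa])
      (fun p q h => absurd (Subsingleton.elim p q) h) (by omega)
    have hab' : polar q a b = 0 := hab 0
    obtain ⟨c, hc, hQc, habc⟩ := exists_aniso_in hnd h2 ![a, b] (Fin.forall_fin_two.2 ⟨ha, hb⟩)
      (Fin.forall_fin_two.2 ⟨hQa, hQb⟩) (fun i j h => by
        fin_cases i <;> fin_cases j
        · exact absurd rfl h
        · exact hab'
        · exact (polar_comm q b a).trans hab'
        · exact absurd rfl h) (by omega)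
    have hac : polar q a c = 0 := habc 0
    have hbc : polar q b c = 0 := habc 1
    rcases eq_or_neg hq hQb hQa with h | h
    · exact make a b c hQa h hQc hab' hac hbc
    rcases eq_or_neg hq hQc hQa with h' | h'
    · exact make a c b hQa h' hQb hac hab' ((polar_comm _ _ _).trans hbc)
    · exact make b c a hQb (h'.trans h.symm) hQa hbc ((polar_comm _ _ _).trans hab') ((polar_comm _ _ _).trans hac)
  have hs0 : ∀ i j, i ≠ j → s (e i) (e j) = 0 := fun i j h =>
    (mul_eq_zero.1 ((hpol _ _).symm.trans (ho i j h))).resolve_left h2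
  have hse : ∀ i, s (e i) (e i) = η := fun i => he i
  have hspan : ∀ x : Fin 3 → F, ∃ d : Fin 3 → F, x = ∑ i, d i • e i := fun x =>
    exists_coeff (Q := q) (W := ⊤) h2 e (fun _ => trivial) (fun i => by rw [he]; exact hη) ho hd trivial
  refine ⟨e, hspan, hs0, fun i => by rw [hse]; exact hη, fun a ν hν ha i => ?_⟩
  choose N hN using fun j => hspan (a (e j))
  have hdot : ∀ j l, (∑ r, N j r * N l r) * η = ν * s (e j) (e l) := fun j l => by
    rw [← ha, hN j, hN l]
    simp only [Fin.sum_univ_three, hs.bilinear.add_left, hs.bilinear.add_right, hs.bilinear.smul_left,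
      hs.bilinear.smul_right, hse, hs0 0 1 (by decide), hs0 0 2 (by decide), hs0 1 0 (by decide), hs0 1 2 (by decide),
      hs0 2 0 (by decide), hs0 2 1 (by decide)]
    ring
  have hMM : Matrix.of N * (Matrix.of N).transpose = ν • (1 : Matrix (Fin 3) (Fin 3) F) := by
    ext j l
    refine mul_right_cancel₀ hη ?_
    rw [Matrix.mul_apply]
    simp only [Matrix.transpose_apply, Matrix.of_apply]
    rw [hdot]
    by_cases h : j = l
    · subst h; simp [hse]
    · simp [hs0 j l h, h]
  have hdet := congrArg Matrix.det hMM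
  rw [Matrix.det_mul, Matrix.det_transpose, Matrix.det_smul, Matrix.det_one, mul_one, Fintype.card_fin] at hdet
  have hν1 : ν = 1 := by
    have hdd : (Matrix.of N).det * (Matrix.of N).det = 1 := (sq_cases hq _).resolve_left fun h => by
      rw [h, zero_mul] at hdet; exact pow_ne_zero 3 hν hdet.symm
    linear_combination -hdet + hdd - ν * (sq_cases hq ν).resolve_left hν
  have hsum : ∑ r, N i r * N i r = 1 := mul_right_cancel₀ hη (by rw [hdot, hse, hν1])
  rw [Fin.sum_univ_three] at hsum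
  rcases sq_cases hq (N i 0) with h0 | h0 <;> rcases sq_cases hq (N i 1) with h1 | h1 <;>
    rcases sq_cases hq (N i 2) with h4 | h4
  · rw [h0, h1, h4] at hsum; exact absurd (by linear_combination -hsum : (1 : F) = 0) one_ne_zero
  · exact ⟨2, N i 2, by rw [hN i, Fin.sum_univ_three, h0, h1]; simp⟩
  · exact ⟨1, N i 1, by rw [hN i, Fin.sum_univ_three, h0, h4]; simp⟩
  · rw [h0, h1, h4] at hsum; exact absurd (by linear_combination hsum : (1 : F) = 0) one_ne_zero
  · exact ⟨0, N i 0, by rw [hN i, Fin.sum_univ_three, h1, h4]; simp⟩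
  · rw [h0, h1, h4] at hsum; exact absurd (by linear_combination hsum : (1 : F) = 0) one_ne_zero
  · rw [h0, h1, h4] at hsum; exact absurd (by linear_combination hsum : (1 : F) = 0) one_ne_zero
  · rw [h0, h1, h4] at hsum; exact absurd (by linear_combination hsum : (2 : F) = 0) h2

section Transvection

variable {U W : Type*} [AddCommGroup U] [Module F U] [AddCommGroup W] [Module F W]
  {G : Subgroup (GL ι F)} {pt : U →ₗ[F] W →ₗ[F] (ι → F)} {f : (ι → F) → (ι → F) → F} {c : F} {s : U → U → F}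
  {b : W → W → F} {k : ℕ} {e : Fin k → U}

theorem FrameData.not_max_of_transvection (h : FrameData G pt f c s b e)
    (haddr : ∀ v x y, f v (x + y) = f v x + f v y) (hT : ∀ z, f z z = 0 →
      ∃ g ∈ G, ∀ x, (g : Matrix ι ι F).mulVec x = x + f x z • z) (M : Subgroup (GL ι F))
    (hM : ∀ g ∈ M, ∃ (a : U → U) (b' : W → W), ∀ x y, (g : Matrix ι ι F).mulVec (pt x y) = pt (a x) (b' y))
    (i0 i1 : Fin k) (h01 : i0 ≠ i1) {u y : W} (hu : b u u = 0) (hyu : b y u = 1) :
    ∃ K : Subgroup (GL ι F), M ⊓ G < K ∧ K < G := by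
  have hb0 : b 0 u = 0 := by simpa using h.b_smul 0 y u
  have hu0 : u ≠ 0 := fun e0 => by
    have h0 : b y 0 = 0 := by
      have hp : f (pt (e i0) y) (pt (e i0) 0) = 0 := by
        rw [map_zero]
        simpa using haddr (pt (e i0) y) 0 0
      rw [h.prod] at hp
      exact (mul_eq_zero.1 ((mul_eq_zero.1 hp).resolve_left h.c_ne)).resolve_left (h.diag i0)
    rw [e0, h0] at hyu
    exact zero_ne_one hyu
  set lam := c * s (e i0) (e i0) with hlam
  have hl : lam ≠ 0 := mul_ne_zero h.c_ne (h.diag i0)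
  have key : ∀ z, f (pt (e i0) z) (pt (e i0) u) = lam * b z u := fun z => by rw [h.prod]; ring
  have key' : ∀ i, i ≠ i0 → ∀ z, f (pt (e i) z) (pt (e i0) u) = 0 := fun i hi z => by rw [h.prod, h.orth i i0 hi]; ring
  have keyd : ∀ i, f (pt (e i) u) (pt (e i) u) = 0 := fun i => by rw [h.prod, hu]; ring
  obtain ⟨g1, hg1, hg1e⟩ := hT _ (keyd i0)
  obtain ⟨g2, hg2, hg2e⟩ := hT (pt (e i0) u + pt (e i1) u) (by
    rw [h.add_left, haddr, haddr, keyd, keyd, h.prod, h.prod, h.orth i0 i1 h01, h.orth i1 i0 h01.symm]; ring)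
  refine h.not_max M hM i0 i1 h01 ⟨g1, hg1, fun z => z + (lam * b z u) • u, fun z => ?_, fun i hi z => ?_, y, fun d hd => ?_⟩
    ⟨g2, hg2, y, y + lam • u, lam • u, fun e0 => ?_, fun e0 => ?_, ?_⟩
  · rw [hg1e, key, map_add, map_smul]
  · rw [hg1e, key' i hi, zero_smul, add_zero]
  · have h1 := congrArg (fun z => b z u) hd
    simp only [h.b_add, h.b_smul, hu, hyu] at h1
    have hd1 : d = 1 := by linear_combination -h1
    simp only [hd1, one_smul, hyu, mul_one] at hd
    exact hu0 ((smul_eq_zero.1 (add_eq_left.1 hd)).resolve_left hl)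
  · have h1 := congrArg (fun z => b z u) e0
    simp only [h.b_add, h.b_smul, hu, hyu, hb0] at h1
    simp at h1
  · exact hu0 ((smul_eq_zero.1 e0).resolve_left hl)
  · rw [hg2e, haddr, key, h.prod (e i0) y (e i1) u, h.orth i0 i1 h01, hyu, map_add, map_smul, map_smul]
    module

end Transvection

theorem unitary_tensor_not_max (hq : Fintype.card F = 4) {f : (ι → F) → (ι → F) → F}
    (hf : Cfsg.Geo.IsUnitaryFormPow 2 f) (G : Subgroup (GL ι F))
    (hG : ∀ g : GL ι F, (∀ u v, f ((g : Matrix ι ι F).mulVec u) ((g : Matrix ι ι F).mulVec v) = f u v) →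
      g ∈ Cfsg.Geo.specialLinear ι F → g ∈ G)
    (hGf : ∀ g ∈ G, ∀ u v, f ((g : Matrix ι ι F).mulVec u) ((g : Matrix ι ι F).mulVec v) = f u v)
    {n₂ : ℕ} (hn₂ : 2 ≤ n₂) (e : ι ≃ Fin 2 × Fin n₂) (P : GL ι F) {f₁ : (Fin 2 → F) → (Fin 2 → F) → F}
    {f₂ : (Fin n₂ → F) → (Fin n₂ → F) → F} (hf₁ : Cfsg.Geo.IsUnitaryFormPow 2 f₁)
    (hf₂ : Cfsg.Geo.IsUnitaryFormPow 2 f₂) (hT : Cfsg.Geo.IsTensorFormStructure (fun x : F => x ^ 2) f f₁ f₂ e P) :
    ∃ K : Subgroup (GL ι F), Cfsg.Geo.tensorProductSubgroup 2 n₂ e P ⊓ G < K ∧ K < G := by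
  obtain ⟨c, hc, hprod⟩ := form_pureT (fun x : F => x ^ 2) (fun a b => mul_pow a b 2) hT
    (unitary_formOfGram hq hf₁) (unitary_formOfGram hq hf₂)
  have htop₁ : Cfsg.Geo.IsNondegenerateOn f₁ ⊤ := fun w _ hw => by
    obtain ⟨⟨x, hx⟩, y, hy⟩ := hf₁.nondegenerate w hw; exact ⟨⟨x, trivial, hx⟩, ⟨y, trivial, hy⟩⟩
  obtain ⟨a, -, haa, ⟨b, -, hba, hbb⟩, hfr⟩ := plane_frame hq hf₁ ⊤ htop₁
    (by rw [finrank_top, Module.finrank_fin_fun])
  have hab : f₁ a b = 0 := by rw [hf₁.herm, hba]; ring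
  have hspan : ∀ x, ∃ d : Fin 2 → F, x = ∑ i, d i • ![a, b] i := fun x => by
    have hli : LinearIndependent F ![a, b] := by
      rw [LinearIndependent.pair_iff]
      intro p q hpq
      have h1 := congrArg (formDual hf₁ a) hpq
      have h2 := congrArg (formDual hf₁ b) hpq
      rw [map_add, map_smul, map_smul, map_zero] at h1 h2
      simp [formDual, haa, hba, hab, hbb] at h1 h2
      exact ⟨h1, h2⟩
    have := hli.span_eq_top_of_card_eq_finrank (by rw [Module.finrank_fin_fun]; rfl)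
    obtain ⟨d, hd⟩ := (Submodule.mem_span_range_iff_exists_fun F).1 (this ▸ Submodule.mem_top : x ∈ _)
    exact ⟨d, hd.symm⟩
  have hd : FrameData G (pureT e P) f c f₁ f₂ ![a, b] :=
    { c_ne := hc, add_left := hf.add_left, prod := hprod, b_add := hf₂.add_left, b_smul := hf₂.smul_left
      b_nondeg := fun y hy => (hf₂.nondegenerate y hy).2
      span := hspan
      orth := fun i j h => by
        fin_cases i <;> fin_cases j
        · exact absurd rfl h
        · exact hab
        · exact hba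
        · exact absurd rfl h
      diag := fun i => by fin_cases i <;> simp [haa, hbb]
      isom := hGf
      rigid := fun A ν hν hA i => by
        have hν1 : ν = 1 := (zero_or_one_of_sq ν (by
          have := hf₁.herm (A a) (A a); rw [hA, haa, mul_one] at this; exact this)).resolve_left hν
        have hi : f₁ (A (![a, b] i)) (A (![a, b] i)) = 1 := by
          rw [hA, hν1, one_mul]; fin_cases i <;> simp [haa, hbb]
        rcases hfr _ trivial hi with ⟨d, hd⟩ | h
        · exact ⟨0, d, hd⟩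
        · obtain ⟨d, hd⟩ := hspan (A (![a, b] i))
          rw [hd, Fin.sum_univ_two] at h ⊢
          simp [hf₁.add_left, hf₁.smul_left, haa, hba] at h
          exact ⟨1, d 1, by rw [h, zero_smul, zero_add]⟩ }
  obtain ⟨x0, hx0⟩ : ∃ x : Fin n₂ → F, x ≠ 0 := ⟨fun _ => 1, fun h => one_ne_zero (congrFun h ⟨0, by omega⟩)⟩
  have htop₂ : Cfsg.Geo.IsNondegenerateOn f₂ ⊤ := fun w _ hw => by
    obtain ⟨⟨x, hx⟩, y, hy⟩ := hf₂.nondegenerate w hw; exact ⟨⟨x, trivial, hx⟩, ⟨y, trivial, hy⟩⟩
  obtain ⟨p, -, hp⟩ := exists_norm_one hq hf₂ ⊤ htop₂ (x := x0) trivial hx0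
  obtain ⟨u, hu0, hu⟩ : ∃ u, u ≠ 0 ∧ f₂ u u = 0 := by
    obtain ⟨r, hr, hr0⟩ := Submodule.exists_mem_ne_zero_of_ne_bot
      (show LinearMap.ker (formDual hf₂ p) ≠ ⊥ from
        LinearMap.ker_ne_bot_of_finrank_lt (by rw [Module.finrank_self, Module.finrank_fin_fun]; omega))
    have hrp : f₂ r p = 0 := hr
    have hpr : f₂ p r = 0 := by rw [hf₂.herm, hrp]; ring
    rcases zero_or_one_of_sq _ (hf₂.herm r r) with h | h
    · exact ⟨r, hr0, h⟩
    · refine ⟨p + r, fun e0 => ?_, ?_⟩
      · have := congrArg (formDual hf₂ p) e0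
        rw [map_add, map_zero] at this
        simp [formDual, hp, hrp] at this
      · rw [hf₂.add_left, form_add_right hq hf₂, form_add_right hq hf₂, hp, hrp, hpr, h]
        linear_combination two_zero_of_four hq
  obtain ⟨y, hy⟩ := (hf₂.nondegenerate u hu0).1
  refine hd.not_max_of_transvection (form_add_right hq hf) (fun z hz => exists_utv hq hf G hG hz) _
    (fun g hg => by obtain ⟨A, B, h⟩ := exists_pair e P hg; exact ⟨_, _, h⟩) 0 1 (by decide) (y := (f₂ y u)⁻¹ • y) hu
    (by rw [hf₂.smul_left, inv_mul_cancel₀ hy])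

theorem symp_tensor_not_max (hq : Fintype.card F = 3) {f : (ι → F) → (ι → F) → F} (hf : Cfsg.Geo.IsBilinearForm f)
    (halt : ∀ v, f v v = 0) (G : Subgroup (GL ι F))
    (hG : ∀ g : GL ι F, (∀ u v, f ((g : Matrix ι ι F).mulVec u) ((g : Matrix ι ι F).mulVec v) = f u v) ↔ g ∈ G)
    {n₁ : ℕ} (hn₁ : 0 < n₁) (e : ι ≃ Fin n₁ × Fin 3) (P : GL ι F) {f₁ : (Fin n₁ → F) → (Fin n₁ → F) → F}
    {f₂ : (Fin 3 → F) → (Fin 3 → F) → F} (hf₁ : Cfsg.Geo.IsSymplecticForm f₁) (hf₂ : Cfsg.Geo.IsSymmetricForm f₂)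
    (hT : Cfsg.Geo.IsTensorFormStructure id f f₁ f₂ e P) :
    ∃ K : Subgroup (GL ι F), Cfsg.Geo.tensorProductSubgroup n₁ 3 e P ⊓ G < K ∧ K < G := by
  obtain ⟨c, hc, hprod⟩ := form_pureT id (fun a b => rfl) hT (bilinear_formOfGram hf₁.bilinear)
    (bilinear_formOfGram hf₂.bilinear)
  obtain ⟨fr, hspan, horth, hdiag, hrig⟩ := exists_frame_three hq hf₂
  have hd : FrameData G (pureT e P).flip f c f₂ f₁ fr :=
    { c_ne := hc, add_left := hf.add_left
      prod := fun x y x' y' => by rw [LinearMap.flip_apply, LinearMap.flip_apply, hprod]; ring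
      b_add := hf₁.bilinear.add_left, b_smul := hf₁.bilinear.smul_left
      b_nondeg := fun y hy => (hf₁.nondegenerate y hy).2
      span := hspan, orth := horth, diag := hdiag, isom := fun g hg => (hG g).2 hg, rigid := hrig }
  have hu0 : (fun _ => 1 : Fin n₁ → F) ≠ 0 := fun h => one_ne_zero (congrFun h ⟨0, hn₁⟩)
  obtain ⟨y, hy⟩ := (hf₁.nondegenerate _ hu0).1
  let fB : (ι → F) →ₗ[F] (ι → F) →ₗ[F] F := LinearMap.mk₂ F f hf.add_left
    (fun c u v => by rw [hf.smul_left, smul_eq_mul]) hf.add_right (fun c u v => by rw [hf.smul_right, smul_eq_mul])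
  refine hd.not_max_of_transvection hf.add_right (fun z hz => ?_) _
    (fun g hg => by obtain ⟨A, B, h⟩ := exists_pair e P hg; exact ⟨_, _, fun x y => h y x⟩) 0 1 (by decide)
    (u := fun _ => 1) (y := (f₁ y _)⁻¹ • y) (hf₁.alternating _) (by rw [hf₁.bilinear.smul_left, inv_mul_cancel₀ hy])
  have hz' : fB.flip z z = 0 := hz
  refine ⟨(glEquiv ι F).symm (tvec (fB.flip z) z), (hG _).1 fun u v => ?_, fun x => by rw [symm_mulVec, tvec_apply hz']; rfl⟩
  rw [symm_mulVec, symm_mulVec, tvec_apply hz', tvec_apply hz']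
  show f (u + f u z • z) (v + f v z • z) = f u v
  rw [hf.add_left, hf.add_right, hf.add_right, hf.smul_left, hf.smul_left, hf.smul_right, hf.smul_right, hz]
  have hskew := halt (v + z)
  rw [hf.add_left, hf.add_right, hf.add_right, halt, halt] at hskew
  linear_combination f u z * hskew

theorem orth_tensor_not_max {Q : QuadraticForm F (ι → F)} (hQ : (polarBilin Q).Nondegenerate)
    (hn : 5 ≤ Fintype.card ι) (hq : Fintype.card F = 3) {n₂ : ℕ} (hn₂ : 3 ≤ n₂) (e : ι ≃ Fin 3 × Fin n₂) (P : GL ι F)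
    {f₁ : (Fin 3 → F) → (Fin 3 → F) → F} {f₂ : (Fin n₂ → F) → (Fin n₂ → F) → F} (hf₁ : Cfsg.Geo.IsSymmetricForm f₁)
    (hf₂ : Cfsg.Geo.IsSymmetricForm f₂) (hT : Cfsg.Geo.IsTensorFormStructure id (QuadraticMap.polar ⇑Q) f₁ f₂ e P) :
    ∃ K : Subgroup (GL ι F), Cfsg.Geo.tensorProductSubgroup 3 n₂ e P ⊓ Cfsg.Geo.omegaGL ⇑Q < K ∧
      K < Cfsg.Geo.omegaGL ⇑Q := by
  obtain ⟨c, hc, hprod⟩ := form_pureT id (fun a b => rfl) hT (bilinear_formOfGram hf₁.bilinear)
    (bilinear_formOfGram hf₂.bilinear)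
  obtain ⟨fr, hspan, horth, hdiag, hrig⟩ := exists_frame_three hq hf₁
  have h2 : (2 : F) ≠ 0 := fun h => one_ne_zero (α := F) (by linear_combination three_eq_zero hq - h)
  have hd : FrameData (Cfsg.Geo.omegaGL ⇑Q) (pureT e P) (QuadraticMap.polar ⇑Q) c f₁ f₂ fr :=
    { c_ne := hc, add_left := fun x y v => polar_add_left Q x y v
      prod := hprod, b_add := hf₂.bilinear.add_left, b_smul := hf₂.bilinear.smul_left
      b_nondeg := fun y hy => (hf₂.nondegenerate y hy).2
      span := hspan, orth := horth, diag := hdiag, isom := fun g hg => omega_polar g hg, rigid := hrig }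
  let B : LinearMap.BilinForm F (Fin n₂ → F) := LinearMap.mk₂ F f₂ hf₂.bilinear.add_left
    (fun c x y => by rw [hf₂.bilinear.smul_left, smul_eq_mul]) hf₂.bilinear.add_right
    (fun c x y => by rw [hf₂.bilinear.smul_right, smul_eq_mul])
  obtain ⟨u, hu0, hu⟩ := Cfsg.Agent.Classical.Quad.exists_singular (LinearMap.BilinMap.toQuadraticMap B)
    (by rw [Module.finrank_fin_fun]; exact hn₂)
  have huu : f₂ u u = 0 := hu
  obtain ⟨u', hu', huu'⟩ : ∃ u', f₂ u u' = 0 ∧ u' ∉ Submodule.span F {u} := by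
    by_contra h
    push Not at h
    have h1 := Submodule.finrank_mono (show LinearMap.ker (B u) ≤ Submodule.span F {u} from fun x hx => h x hx)
    have h2' := LinearMap.finrank_range_add_finrank_ker (B u)
    have h3 := Submodule.finrank_le (LinearMap.range (B u))
    rw [finrank_span_singleton hu0] at h1
    rw [Module.finrank_self] at h3
    rw [Module.finrank_fin_fun] at h2'
    omega
  obtain ⟨y₀, hy₀⟩ := (hf₂.nondegenerate u hu0).1
  set y := (f₂ y₀ u)⁻¹ • y₀ with hy
  have hyu : f₂ y u = 1 := by rw [hy, hf₂.bilinear.smul_left, inv_mul_cancel₀ hy₀]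
  set pt := pureT e P
  have hQp : ∀ i, Q (pt (fr i) u) = 0 := fun i => by
    have := polar_self' (Q := Q) (pt (fr i) u)
    rw [hprod, huu] at this
    exact (mul_eq_zero.1 (by linear_combination -this : (2 : F) * Q (pt (fr i) u) = 0)).resolve_left h2
  obtain ⟨g1, hg1, hg1e⟩ := exists_siegel hQ hn (hQp 0) (show polar Q (pt (fr 0) u) (pt (fr 0) u') = 0 by
    rw [hprod, hu']; ring)
  obtain ⟨g2, hg2, hg2e⟩ := exists_siegel hQ hn (hQp 0) (show polar Q (pt (fr 0) u) (pt (fr 1) u) = 0 by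
    rw [hprod, huu]; ring)
  set l := c * f₁ (fr 0) (fr 0) with hl
  have hl0 : l ≠ 0 := mul_ne_zero hc (hdiag 0)
  refine hd.not_max _ (fun g hg => by obtain ⟨A, B, h⟩ := exists_pair e P hg; exact ⟨_, _, h⟩) 0 1 (by decide)
    ⟨g1, hg1, fun z => z + (l * f₂ z u') • u + (-(l * f₂ z u)) • u' + (-(Q (pt (fr 0) u') * (l * f₂ z u))) • u,
      fun z => ?_, fun i hi z => ?_, y, fun d hd' => ?_⟩
    ⟨g2, hg2, y, y, (-l) • u, fun h0 => ?_, fun h0 => ?_, ?_⟩
  · rw [hg1e, hprod, hprod, map_add, map_add, map_add, map_smul, map_smul, map_smul, hl]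
    module
  · rw [hg1e, hprod, hprod, horth i 0 hi]
    simp
  · have h1 := congrArg (fun z => f₂ z u) hd'
    simp only [hf₂.bilinear.add_left, hf₂.bilinear.smul_left, huu, hyu, hf₂.symm u' u, hu'] at h1
    have hd1 : d = 1 := by linear_combination -h1
    simp only [hd1, one_smul, hyu, mul_one] at hd'
    refine huu' (Submodule.mem_span_singleton.2 ⟨(f₂ y u' - Q (pt (fr 0) u')), ?_⟩)
    refine smul_right_injective _ hl0 ?_
    show l • (f₂ y u' - Q (pt (fr 0) u')) • u = l • u'
    rw [← sub_eq_zero, ← sub_eq_zero.2 hd']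
    module
  · rw [h0] at hyu
    exact zero_ne_one ((show f₂ 0 u = 0 by simpa using hf₂.bilinear.smul_left 0 y₀ u).symm.trans hyu)
  · exact hu0 ((smul_eq_zero.1 h0).resolve_left (neg_ne_zero.2 hl0))
  · rw [hg2e, hprod, hprod, horth 0 1 (by decide), hyu, hQp 1, hl]
    simp only [map_smul, map_neg, neg_smul, mul_zero, zero_mul, neg_zero, zero_smul, add_zero, mul_one]

end Cfsg.Agent.NotMax
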