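import Cfsg.Agent.NotMax.Basic
import Cfsg.Agent.Classical.QuadDecomp

/-!
The stabiliser in `Ω(Q)` of a hyperbolic plane over a field with at most three elements fixes a non-singular
point of the plane, so it is not maximal.
-/

set_option autoImplicit false
set_option linter.unusedSectionVars false

namespace Cfsg.Agent.NotMax

open Module QuadraticMap Cfsg.Agent.ClassicalMax Cfsg.Agent.Classical Cfsg.Agent.Classical.Quad

variable {ι : Type} [Fintype ι] [DecidableEq ι] {F : Type*} [Field F] [Fintype F] {Q : QuadraticForm F (ι → F)}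

theorem mul_self_of_small (hq : Fintype.card F ≤ 3) {x : F} (hx : x ≠ 0) : x * x = 1 := by
  have h := FiniteField.pow_card_sub_one_eq_one x hx
  have h2 : 1 < Fintype.card F := Fintype.one_lt_card
  rcases (by omega : Fintype.card F = 2 ∨ Fintype.card F = 3) with e | e
  · rw [e] at h; simp at h; simp [h]
  · rw [e] at h; simpa [pow_two] using h

/-- a singular vector orthogonal to a plane -/
theorem exists_singular_perp (hn : 5 ≤ Fintype.card ι) (a b : ι → F) :
    ∃ u, u ≠ 0 ∧ Q u = 0 ∧ polar Q a u = 0 ∧ polar Q b u = 0 := by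
  set L := (polarBilin Q a).prod (polarBilin Q b)
  have h3 : 3 ≤ finrank F (LinearMap.ker L) := by
    have h4 := LinearMap.finrank_range_add_finrank_ker L
    have h5 := Submodule.finrank_le (LinearMap.range L)
    rw [Module.finrank_prod, Module.finrank_self] at h5
    rw [Module.finrank_fintype_fun_eq_card] at h4
    omega
  obtain ⟨u, hu0, hu⟩ := exists_singular (Q.comp (LinearMap.ker L).subtype) h3
  have h := LinearMap.mem_ker.1 u.2
  exact ⟨u, fun e => hu0 (Subtype.ext e), hu, congrArg Prod.fst h, congrArg Prod.snd h⟩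

theorem plane_not_max (hQ : (polarBilin Q).Nondegenerate) (hn : 5 ≤ Fintype.card ι) (hq : Fintype.card F ≤ 3)
    (W : Submodule F (ι → F)) (hdim : finrank F W = 2)
    (hW : Cfsg.Geo.IsNondegenerateOn (QuadraticMap.polar ⇑Q) W) (hplus : Cfsg.Geo.IsPlusTypeOn ⇑Q W) :
    ∃ K : Subgroup (GL ι F), Cfsg.Geo.subspaceStabilizer W ⊓ Cfsg.Geo.omegaGL ⇑Q < K ∧ K < Cfsg.Geo.omegaGL ⇑Q := by
  obtain ⟨U, hUW, hUs, hUd⟩ := hplus
  obtain ⟨e, heU, he0⟩ := U.exists_mem_ne_zero_of_ne_bot fun h => by
    rw [h, finrank_bot, hdim] at hUd; omega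
  have heW := hUW heU
  have he : Q e = 0 := hUs e heU
  obtain ⟨⟨x₀, hx₀W, -⟩, w, hwW, hw⟩ := hW e heW he0
  set w' := (polar Q e w)⁻¹ • w with hw'
  have hew : polar Q e w' = 1 := by rw [hw', polar_smul_right, smul_eq_mul, inv_mul_cancel₀ hw]
  set f := w' + (-Q w') • e with hfdef
  have hfW : f ∈ W := W.add_mem (W.smul_mem _ hwW) (W.smul_mem _ heW)
  have hf : Q f = 0 := by rw [hfdef, map_add_smul, he, polar_comm Q w', hew]; ring
  have hef : polar Q e f = 1 := by
    rw [hfdef, polar_add_right, hew, polar_smul_right, polar_self', he]; simp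
  have hfe : polar Q f e = 1 := by rw [polar_comm, hef]
  have hee : polar Q e e = 0 := by rw [polar_self', he, mul_zero]
  have hff : polar Q f f = 0 := by rw [polar_self', hf, mul_zero]
  have hspan : ∀ s ∈ W, ∃ a b : F, a • e + b • f = s := fun s hs => by
    have hli : LinearIndependent F ![e, f] := by
      rw [LinearIndependent.pair_iff]
      intro a b hab
      have h1 := congrArg (fun v => polarBilin Q v f) hab
      have h2 := congrArg (fun v => polarBilin Q v e) hab
      simp [polarBilin_apply_apply, hef, hff, hfe, hee] at h1 h2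
      exact ⟨h1, h2⟩
    have : Submodule.span F (Set.range ![e, f]) = W := by
      refine Submodule.eq_of_le_of_finrank_eq ?_ (by rw [finrank_span_eq_card hli, hdim]; rfl)
      rw [Submodule.span_le]
      rintro _ ⟨i, rfl⟩
      fin_cases i
      · exact heW
      · exact hfW
    rw [← this, Matrix.range_cons, Matrix.range_cons, Matrix.range_empty, Set.union_empty, Set.singleton_union,
      Submodule.mem_span_pair] at hs
    exact hs
  set d := e + f with hd
  set b := e - f with hb
  have hbW : b ∈ W := W.sub_mem heW hfW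
  obtain ⟨u, hu0, hu, hue, huf⟩ := exists_singular_perp (Q := Q) hn e f
  have hWu : ∀ s ∈ W, polar Q s u = 0 := fun s hs => by
    obtain ⟨a, c, rfl⟩ := hspan s hs
    rw [polar_add_left, polar_smul_left, polar_smul_left, hue, huf, smul_zero, smul_zero, add_zero]
  have huW : ∀ c : F, c ≠ 0 → ∀ s ∈ W, s + c • u ∉ W := fun c hc s hs h => by
    have hu' : u ∈ W := (W.smul_mem_iff hc).1 ((W.add_mem_iff_right hs).1 h)
    obtain ⟨-, x, hxW, hx⟩ := hW u hu' hu0
    exact hx (by rw [polar_comm]; exact hWu x hxW)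
  have hperp : ∀ z ∈ W, polar Q u z = 0 := fun z hz => by rw [polar_comm]; exact hWu z hz
  obtain ⟨g1, hg1, hg1e⟩ := exists_siegel hQ hn hu (hperp b hbW)
  obtain ⟨g2, hg2, hg2e⟩ := exists_siegel hQ hn hu (hperp e heW)
  have key : ∀ s ∈ W, Q s = 1 → polar Q s b = 0 := fun s hs hs1 => by
    obtain ⟨a, c, rfl⟩ := hspan s hs
    rw [map_add', map_smul', map_smul', polar_smul_left, polar_smul_right, he, hf, hef] at hs1
    simp only [smul_eq_mul, mul_zero, mul_one, zero_add] at hs1
    have ha : a ≠ 0 := left_ne_zero_of_mul_eq_one hs1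
    have hac : c = a := mul_left_cancel₀ ha (by rw [hs1, mul_self_of_small hq ha])
    rw [hb, polar_sub_right, polar_add_left, polar_add_left, polar_smul_left, polar_smul_left, polar_smul_left,
      polar_smul_left, hee, hfe, hef, hff, hac]
    simp
  refine exists_between _ _ {v | v ∈ W ∧ Q v = 1} (fun g hgM hgG v hv =>
      ⟨(hgM v).1 hv.1, (omega_map g hgG v).trans hv.2⟩)
    ⟨g1, hg1, fun v hv => ?_, fun hM => ?_⟩ ⟨g2, hg2, d, ⟨W.add_mem heW hfW, ?_⟩, fun h => ?_⟩
  · rw [hg1e, hWu v hv.1, key v hv.1 hv.2]; simpa using hv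
  · have h := (hM e).1 heW
    rw [SetLike.mem_coe, show (Cfsg.glToMat ι F g1).mulVec e = _ from hg1e e, hWu e heW, hb, polar_sub_right, hee, hef] at h
    exact huW (-1) (neg_ne_zero.2 one_ne_zero) e heW (by simpa using h)
  · rw [hd, map_add', he, hf, hef]; simp
  · obtain ⟨h, -⟩ := h
    rw [hg2e, hWu d (W.add_mem heW hfW), hd, polar_add_left, hee, hfe] at h
    exact huW 1 one_ne_zero _ (W.add_mem heW hfW) (by simpa using h)

end Cfsg.Agent.NotMax
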