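import Cfsg.Agent.NotMax.Basic

/-!
The projections attached to a direct decomposition and the number of non-zero components of a vector.
-/

set_option autoImplicit false
set_option linter.unusedSectionVars false

namespace Cfsg.Agent.NotMax

open Module

variable {ι : Type} [Fintype ι] [DecidableEq ι] {F : Type*} [Field F] {t m : ℕ} {D : Fin t → Submodule F (ι → F)}

/-- the projections onto the members of a decomposition -/
structure IsParts (D : Fin t → Submodule F (ι → F)) (p : Fin t → (ι → F) →ₗ[F] (ι → F)) : Prop where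
  mem : ∀ i v, p i v ∈ D i
  sum : ∀ v, ∑ i, p i v = v
  same : ∀ i, ∀ v ∈ D i, p i v = v
  other : ∀ i j, i ≠ j → ∀ v ∈ D i, p j v = 0

theorem exists_parts (hD : Cfsg.Geo.IsMDecomposition m D) :
    ∃ p : Fin t → (ι → F) →ₗ[F] (ι → F), IsParts D p := by
  classical
  have hI := DirectSum.isInternal_submodule_of_iSupIndep_of_iSup_eq_top hD.indep hD.iSup_eq_top
  let E := (LinearEquiv.ofBijective (DirectSum.coeLinearMap D) hI).symm
  refine ⟨fun i => (D i).subtype.comp ((DirectSum.component F (Fin t) (fun i => D i) i).comp E.toLinearMap),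
    fun i v => Submodule.coe_mem _, fun v => ?_, fun i v hv => ?_, fun i j hij v hv => ?_⟩
  · have h : DirectSum.coeLinearMap D (E v) = v :=
      (LinearEquiv.ofBijective (DirectSum.coeLinearMap D) hI).apply_symm_apply v
    conv_rhs => rw [← h, ← DirectSum.sum_univ_of (E v), map_sum]
    refine Finset.sum_congr rfl fun i _ => ?_
    rw [DirectSum.coeLinearMap_of]
    rfl
  · show (((E v) i : D i) : ι → F) = v
    rw [show E v i = ⟨v, hv⟩ from hI.ofBijective_coeLinearMap_of_mem hv]
  · show (((E v) j : D j) : ι → F) = 0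
    rw [show E v j = 0 from hI.ofBijective_coeLinearMap_of_mem_ne hij hv]
    rfl

theorem mul_card_eq' (hD : Cfsg.Geo.IsMDecomposition m D) : t * m = Fintype.card ι := by
  classical
  have hI := DirectSum.isInternal_submodule_of_iSupIndep_of_iSup_eq_top hD.indep hD.iSup_eq_top
  have e := (hI.collectedBasis fun i => Module.finBasis F (D i))
  rw [← Module.finrank_fintype_fun_eq_card F, Module.finrank_eq_card_basis e]
  simp [hD.finrank_eq]

variable {p : Fin t → (ι → F) →ₗ[F] (ι → F)}

/-- the number of non-zero components, in the field -/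
noncomputable def weight (p : Fin t → (ι → F) →ₗ[F] (ι → F)) (v : ι → F) : F :=
  open scoped _root_.Classical in ∑ i, if p i v = 0 then 0 else 1

theorem weight_single (hp : IsParts D p) {i : Fin t} {v : ι → F} (hv : v ∈ D i) (hv0 : v ≠ 0) : weight p v = 1 := by
  classical
  rw [weight, Finset.sum_eq_single i (fun j _ hj => by rw [hp.other i j hj.symm v hv, if_pos rfl]) (by simp),
    hp.same i v hv, if_neg hv0]

theorem weight_pair (hp : IsParts D p) {i j : Fin t} (hij : i ≠ j) {u v : ι → F} (hu : u ∈ D i) (hu0 : u ≠ 0)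
    (hv : v ∈ D j) (hv0 : v ≠ 0) : weight p (u + v) = 1 + 1 := by
  classical
  rw [weight, Finset.sum_eq_add i j hij (fun l _ hl => by
      rw [map_add, hp.other i l hl.1.symm u hu, hp.other j l hl.2.symm v hv, add_zero, if_pos rfl]) (by simp) (by simp),
    map_add, map_add, hp.same i u hu, hp.other j i hij.symm v hv, add_zero, hp.same j v hv, hp.other i j hij u hu,
    zero_add, if_neg hu0, if_neg hv0]

theorem notMem_of_parts (hp : IsParts D p) {i j : Fin t} (hij : i ≠ j) {v : ι → F} (h : p i v ≠ 0) (h' : p j v ≠ 0)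
    (l : Fin t) : v ∉ D l := fun hv => by
  by_cases hl : l = i
  · exact h' (hp.other l j (hl ▸ hij) v hv)
  · exact h (hp.other l i hl v hv)

theorem weight_invariant (hp : IsParts D p) {g : GL ι F} (hg : g ∈ Cfsg.Geo.decompositionStabilizer D) (v : ι → F) :
    weight p ((g : Matrix ι ι F).mulVec v) = weight p v := by
  classical
  obtain ⟨σ, hσ⟩ := hg
  have hmem : ∀ i, (g : Matrix ι ι F).mulVec (p i v) ∈ D (σ i) := fun i =>
    hσ i ▸ ⟨p i v, hp.mem i v, Matrix.toLin'_apply _ _⟩
  have key : ∀ i, p (σ i) ((g : Matrix ι ι F).mulVec v) = (g : Matrix ι ι F).mulVec (p i v) := fun i => by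
    conv_lhs => rw [← hp.sum v, Matrix.mulVec_sum, map_sum]
    rw [Finset.sum_eq_single i (fun j _ hj => hp.other (σ j) (σ i) (fun e => hj (σ.injective e)) _ (hmem j)) (by simp),
      hp.same _ _ (hmem i)]
  have hz : ∀ i, (g : Matrix ι ι F).mulVec (p i v) = 0 ↔ p i v = 0 := fun i =>
    (Cfsg.Agent.ClassicalMax.glEquiv ι F g).map_eq_zero_iff
  rw [weight, weight, ← Equiv.sum_comp σ]
  refine Finset.sum_congr rfl fun i _ => ?_
  simp only [key, hz]

end Cfsg.Agent.NotMax
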