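import Cfsg.Agent.NotMax.Basic
import Cfsg.Agent.Classical.OrthChar

/-!
The two families of maximal totally singular subspaces: stabilisers of a submaximal totally singular subspace, and of a
pair of complementary maximal ones of different families, are not maximal in `Ω(Q)`.
-/

set_option autoImplicit false
set_option linter.unusedSectionVars false

namespace Cfsg.Agent.NotMax

open Module QuadraticMap Cfsg.Agent.ClassicalMax Cfsg.Agent.Classical Cfsg.Agent.Classical.Quad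

variable {ι : Type} [Fintype ι] [DecidableEq ι] {F : Type*} [Field F] [Fintype F] {Q : QuadraticForm F (ι → F)}

theorem exists_omega_off (hQ : (polarBilin Q).Nondegenerate) (hn : 5 ≤ Fintype.card ι) (U : Submodule F (ι → F))
    (hU : ∀ u ∈ U, Q u = 0) {x : ι → F} (hx : x ∈ U) (hx0 : x ≠ 0) :
    ∃ g ∈ Cfsg.Geo.omegaGL ⇑Q, (g : Matrix ι ι F).mulVec x ∉ U := by
  obtain ⟨f, hf, hxf⟩ := exists_hyp_pair hQ hx0 (hU x hx)
  obtain ⟨w, hxw, hfw, hw⟩ := exists_aniso_perp hQ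
    (by rw [Module.finrank_fintype_fun_eq_card]; omega) (hU x hx) hf hxf
  obtain ⟨g, hg, hge⟩ := exists_siegel hQ hn hf (show polar Q f w = 0 from hfw)
  refine ⟨g, hg, fun h => ?_⟩
  rw [hge, hxw, hxf] at h
  have h0 := polar_eq_zero_of_singular hU hx h
  simp only [polar_add_right, polar_smul_right, polar_self', hU x hx, hxw, hxf, smul_eq_mul] at h0
  exact hw (by simpa using h0)

/-- commutator elements preserve a family -/
theorem even_codim (hQ : (polarBilin Q).Nondegenerate) (hn : 5 ≤ Fintype.card ι) {m : ℕ} (hm : Fintype.card ι = 2 * m)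
    {U : Submodule F (ι → F)} (hU : ∀ u ∈ U, Q u = 0) (hUd : finrank F U = m)
    {g : GL ι F} (hg : g ∈ Cfsg.Geo.omegaGL ⇑Q) :
    Even (m - finrank F (U ⊓ U.map (Matrix.toLin' (g : Matrix ι ι F)) : Submodule F (ι → F))) := by
  obtain ⟨g', hg', rfl⟩ := Subgroup.mem_map.1 hg
  have hex : Nat.card F ≠ 2 ∨ finrank F (ι → F) ≠ 4 := Or.inr (by rw [Module.finrank_fintype_fun_eq_card]; omega)
  have hd := Abelianization.commutator_subset_ker (dickson hQ hex) ((mem_omega_iff g').1 hg')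
  have := (even_codim_iff hQ hex (m := m) (by rw [Module.finrank_fintype_fun_eq_card, hm]) hU hUd (oEquiv Q g')).2
    (MonoidHom.mem_ker.1 hd)
  have e : ((oEquiv Q g').1 : (ι → F) →ₗ[F] (ι → F)) = Matrix.toLin' (g'.1 : Matrix ι ι F) :=
    LinearMap.ext fun x => by rw [Matrix.toLin'_apply]; exact oEquiv_apply g' x
  rw [e] at this
  exact this

theorem submax_not_max' (hQ : (polarBilin Q).Nondegenerate) (hn : 5 ≤ Fintype.card ι)
    (hplus : Cfsg.Geo.IsPlusTypeOn ⇑Q ⊤) (W : Submodule F (ι → F)) (hW : Cfsg.Geo.IsTotallySingularQuad ⇑Q W)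
    (hdim : 2 * (finrank F W + 1) = Fintype.card ι) :
    ∃ K : Subgroup (GL ι F), Cfsg.Geo.subspaceStabilizer W ⊓ Cfsg.Geo.omegaGL ⇑Q < K ∧ K < Cfsg.Geo.omegaGL ⇑Q := by
  obtain ⟨U₀, -, hU₀, hU₀d⟩ := hplus
  rw [finrank_top, Module.finrank_fintype_fun_eq_card] at hU₀d
  obtain ⟨W₀, hW₀U, hW₀d⟩ : ∃ W₀ : Submodule F (ι → F), W₀ ≤ U₀ ∧ finrank F W₀ = finrank F W := by
    have hle : finrank F W ≤ finrank F U₀ := by omega
    obtain ⟨f, hf⟩ := exists_linearIndependent_of_le_finrank hle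
    have hf' : LinearIndependent F (fun i => (f i : ι → F)) := hf.map' U₀.subtype U₀.ker_subtype
    refine ⟨Submodule.span F (Set.range fun i => (f i : ι → F)), ?_, ?_⟩
    · rw [Submodule.span_le]; rintro _ ⟨i, rfl⟩; exact (f i).2
    · rw [finrank_span_eq_card hf', Fintype.card_fin]
  obtain ⟨a, ha, haW⟩ := witt hQ W₀ W (LinearEquiv.ofFinrankEq _ _ hW₀d) fun x => by
    rw [hW _ (LinearEquiv.ofFinrankEq _ _ hW₀d x).2, hU₀ _ (hW₀U x.2)]
  set U := U₀.map (a : (ι → F) →ₗ[F] (ι → F)) with hUdef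
  have hU : ∀ u ∈ U, Q u = 0 := by rintro _ ⟨u, hu, rfl⟩; exact (ha u).trans (hU₀ u hu)
  have hUd : finrank F U = finrank F W + 1 := by rw [hUdef, LinearEquiv.finrank_map_eq]; omega
  have hWU : W ≤ U := fun w hw => by
    obtain ⟨x, hx⟩ := (LinearEquiv.ofFinrankEq _ _ hW₀d).surjective ⟨w, hw⟩
    exact ⟨x, hW₀U x.2, (haW x).trans (congrArg Subtype.val hx)⟩
  obtain ⟨p, hpU, hpW⟩ : ∃ p ∈ U, p ∉ W := by
    by_contra! h
    have := Submodule.finrank_mono (show U ≤ W from h)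
    omega
  have hW0 : W ≠ ⊥ := fun h => by rw [h, finrank_bot] at hdim; omega
  obtain ⟨x, hxW, hx0⟩ := W.exists_mem_ne_zero_of_ne_bot hW0
  have hxp : x ∉ Submodule.span F {p} := fun h => by
    obtain ⟨c, rfl⟩ := Submodule.mem_span_singleton.1 h
    rcases eq_or_ne c 0 with rfl | hc
    · exact hx0 (zero_smul _ _)
    · exact hpW ((W.smul_mem_iff hc).1 hxW)
  obtain ⟨w, hw, hxw⟩ := Cfsg.Agent.Classical.Quad.exists_perp hQ hxp
  obtain ⟨g1, hg1, hg1e⟩ := exists_siegel hQ (by omega) (hU p hpU) (hw p (Submodule.mem_span_singleton_self p))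
  obtain ⟨g2, hg2, hg2e⟩ := exists_omega_off hQ (by omega) U hU (hWU hxW) hx0
  refine exists_between _ _ (U : Set (ι → F)) (fun g hgM hgG v hv => ?_) ⟨g1, hg1, fun v hv => ?_, fun hM => ?_⟩
    ⟨g2, hg2, x, hWU hxW, hg2e⟩
  · set U' := U.map (Matrix.toLin' (g : Matrix ι ι F)) with hU'
    have hev := even_codim hQ (by omega) (m := finrank F W + 1) hdim.symm hU hUd hgG
    rw [← hU'] at hev
    have hWU' : W ≤ U ⊓ U' := le_inf hWU fun u hu => by
      obtain ⟨u', hu', rfl⟩ : ∃ u' ∈ W, (g : Matrix ι ι F).mulVec u' = u :=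
        ⟨glEquiv ι F g⁻¹ u, ((inv_mem hgM : g⁻¹ ∈ Cfsg.Geo.subspaceStabilizer W) u).1 hu, by
          rw [← glEquiv_apply, map_inv, apply_inv]⟩
      exact ⟨u', hWU hu', Matrix.toLin'_apply _ _⟩
    have h1 := Submodule.finrank_mono hWU'
    have h2 : finrank F (U ⊓ U' : Submodule F (ι → F)) ≤ finrank F W + 1 := hUd ▸ Submodule.finrank_mono inf_le_left
    obtain ⟨r, hr⟩ := hev
    have h3 : U ⊓ U' = U := Submodule.eq_of_le_of_finrank_eq inf_le_left (by omega)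
    have h4 : U = U' := Submodule.eq_of_le_of_finrank_eq (inf_eq_left.1 h3) (by
      rw [hU']
      exact (Submodule.equivMapOfInjective (Matrix.toLin' (g : Matrix ι ι F))
        (fun a b e => (glEquiv ι F g).injective (by simpa [glEquiv_apply, Matrix.toLin'_apply] using e)) U).finrank_eq)
    rw [SetLike.mem_coe, h4, hU']
    exact ⟨v, hv, Matrix.toLin'_apply _ _⟩
  · rw [hg1e, polar_eq_zero_of_singular hU hv hpU]
    simp only [neg_zero, zero_smul, mul_zero, add_zero]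
    exact U.add_mem hv (U.smul_mem _ hpU)
  · have h := (hM x).1 hxW
    rw [SetLike.mem_coe, show (Cfsg.glToMat ι F g1).mulVec x = _ from hg1e x, polar_eq_zero_of_singular hU (hWU hxW) hpU,
      hxw] at h
    simp only [neg_zero, zero_smul, mul_zero, add_zero, one_smul] at h
    exact hpW ((W.add_mem_iff_right hxW).1 h)

theorem submax_not_max (hQ : (polarBilin Q).Nondegenerate) (hn : 13 ≤ Fintype.card ι)
    (hplus : Cfsg.Geo.IsPlusTypeOn ⇑Q ⊤) (W : Submodule F (ι → F)) (hW : Cfsg.Geo.IsTotallySingularQuad ⇑Q W)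
    (hdim : 2 * (finrank F W + 1) = Fintype.card ι) :
    ∃ K : Subgroup (GL ι F), Cfsg.Geo.subspaceStabilizer W ⊓ Cfsg.Geo.omegaGL ⇑Q < K ∧ K < Cfsg.Geo.omegaGL ⇑Q :=
  submax_not_max' hQ (by omega) hplus W hW hdim

theorem pair_not_max (hQ : (polarBilin Q).Nondegenerate) (hn : 13 ≤ Fintype.card ι) (k : ℕ)
    (hk : 2 * k = Fintype.card ι) (hko : Odd k) (D : Fin 2 → Submodule F (ι → F)) (hD : Cfsg.Geo.IsMDecomposition k D)
    (hts : ∀ i, Cfsg.Geo.IsTotallySingularQuad ⇑Q (D i)) :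
    ∃ K : Subgroup (GL ι F), Cfsg.Geo.decompositionStabilizer D ⊓ Cfsg.Geo.omegaGL ⇑Q < K ∧ K < Cfsg.Geo.omegaGL ⇑Q := by
  have hdisj : D 0 ⊓ D 1 = ⊥ := disjoint_iff.1 (hD.indep.pairwiseDisjoint (by decide : (0 : Fin 2) ≠ 1))
  have hsup : D 0 ⊔ D 1 = ⊤ := by
    rw [← hD.iSup_eq_top]
    exact le_antisymm (sup_le (le_iSup D 0) (le_iSup D 1)) (iSup_le fun i => by fin_cases i <;> simp)
  have hD0 : D 0 ≠ ⊥ := fun h => by
    have := hD.finrank_eq 0
    rw [h, finrank_bot] at this; omega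
  obtain ⟨p, hp, hp0⟩ := (D 0).exists_mem_ne_zero_of_ne_bot hD0
  obtain ⟨w, hw, hwp⟩ : ∃ w ∈ D 0, w ∉ Submodule.span F {p} := by
    by_contra! h
    have := Submodule.finrank_mono (show D 0 ≤ Submodule.span F {p} from h)
    rw [hD.finrank_eq, finrank_span_singleton hp0] at this; omega
  obtain ⟨k₀, hk₀, hwk⟩ := Cfsg.Agent.Classical.Quad.exists_perp hQ hwp
  obtain ⟨x, hx, hxw, hxp⟩ : ∃ x ∈ D 1, polar Q x w = 1 ∧ polar Q x p = 0 := by
    obtain ⟨a, ha, b, hb, hab⟩ := Submodule.mem_sup.1 (hsup ▸ Submodule.mem_top : k₀ ∈ D 0 ⊔ D 1)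
    refine ⟨b, hb, ?_, ?_⟩
    · rw [polar_comm, ← hwk, ← hab, polar_add_right, polar_eq_zero_of_singular (hts 0) hw ha, zero_add]
    · rw [polar_comm, ← hk₀ p (Submodule.mem_span_singleton_self p), ← hab, polar_add_right,
        polar_eq_zero_of_singular (hts 0) hp ha, zero_add]
  obtain ⟨g1, hg1, hg1e⟩ := exists_siegel hQ (by omega) (hts 0 p hp) (polar_eq_zero_of_singular (hts 0) hp hw)
  obtain ⟨g2, hg2, hg2e⟩ := exists_omega_off hQ (by omega) (D 0) (hts 0) hp hp0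
  refine exists_between _ _ (D 0 : Set (ι → F)) (fun g hgM hgG v hv => ?_) ⟨g1, hg1, fun v hv => ?_, fun hM => ?_⟩
    ⟨g2, hg2, p, hp, hg2e⟩
  · obtain ⟨σ, hσ⟩ := hgM
    have h0 := hσ 0
    rcases (by omega : σ 0 = 0 ∨ σ 0 = 1) with e | e <;> rw [e] at h0
    · rw [SetLike.mem_coe, ← h0]
      exact ⟨v, hv, Matrix.toLin'_apply _ _⟩
    · have hev := even_codim hQ (by omega) (m := k) hk.symm (hts 0) (hD.finrank_eq 0) hgG
      rw [h0, hdisj, finrank_bot, Nat.sub_zero] at hev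
      exact absurd hev (Nat.not_even_iff_odd.2 hko)
  · rw [hg1e, polar_eq_zero_of_singular (hts 0) hv hw, polar_eq_zero_of_singular (hts 0) hv hp]
    simpa using hv
  · obtain ⟨σ, hσ⟩ := hM
    have h : (g1 : Matrix ι ι F).mulVec x ∈ D (σ 1) := hσ 1 ▸ ⟨x, hx, Matrix.toLin'_apply _ _⟩
    rw [hg1e, hxw, hxp] at h
    simp only [one_smul, neg_zero, zero_smul, mul_zero, add_zero] at h
    rcases (by omega : σ 1 = 0 ∨ σ 1 = 1) with e | e <;> rw [e] at h
    · have hx0 := (Submodule.eq_bot_iff _).1 hdisj x ⟨((D 0).add_mem_iff_left hp).1 h, hx⟩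
      rw [hx0] at hxw
      exact zero_ne_one (hxw ▸ (by simp : polar Q (0 : ι → F) w = 0)).symm
    · exact hp0 ((Submodule.eq_bot_iff _).1 hdisj p ⟨hp, ((D 1).add_mem_iff_right hx).1 h⟩)

end Cfsg.Agent.NotMax
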