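import Cfsg.Agent.NotMax.TensorFrame
import Cfsg.Agent.NotMax.Blocks

/-!
A tensor decomposition with a factor of dimension two over two elements: the stabiliser normalises the
structure of a vector space over four elements, so it is not maximal.
-/

set_option autoImplicit false
set_option linter.unusedSectionVars false

namespace Cfsg.Agent.NotMax

open Module QuadraticMap Cfsg.Agent.ClassicalMax Cfsg.Agent.Classical Cfsg.Agent.Classical.Quad

variable {ι : Type} [Fintype ι] [DecidableEq ι] {F : Type*} [Field F] [Fintype F] {n₂ : ℕ}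

/-- the coordinates of a vector in the two rows -/
noncomputable def rows (e : ι ≃ Fin 2 × Fin n₂) (P : GL ι F) :
    (ι → F) ≃ₗ[F] (Fin n₂ → F) × (Fin n₂ → F) :=
  ((glEquiv ι F P).symm.trans (LinearEquiv.funCongrLeft F F e.symm)).trans
    ((LinearEquiv.curry F F (Fin 2) (Fin n₂)).trans (LinearEquiv.finTwoArrow F (Fin n₂ → F)))

theorem rows_pureT (e : ι ≃ Fin 2 × Fin n₂) (P : GL ι F) (x : Fin 2 → F) (y : Fin n₂ → F) :
    rows e P (pureT e P x y) = (x 0 • y, x 1 • y) := by
  rw [pureT_apply, ← glEquiv_apply, rows]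
  simp only [LinearEquiv.trans_apply, LinearEquiv.symm_apply_apply]
  ext i <;> simp [LinearEquiv.funCongrLeft, Function.curry]

theorem commute_or_inverse (h01 : ∀ z : F, z = 0 ∨ z = 1) (h2 : (2 : F) = 0) (a : Matrix (Fin 2) (Fin 2) F)
    (ha : a.det ≠ 0) : a * !![0, 1; 1, 1] = !![0, 1; 1, 1] * a ∨ a * !![0, 1; 1, 1] = !![1, 1; 1, 0] * a := by
  have h11 : (1 : F) + 1 = 0 := by linear_combination h2
  rw [Matrix.eta_fin_two a] at ha ⊢
  rcases h01 (a 0 0) with e0 | e0 <;> rcases h01 (a 0 1) with e1 | e1 <;> rcases h01 (a 1 0) with e2 | e2 <;>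
    rcases h01 (a 1 1) with e3 | e3 <;> rw [e0, e1, e2, e3] at ha ⊢ <;> simp [Matrix.det_fin_two] at ha <;>
    simp [h11]

theorem tensor_four_not_max (hq : Fintype.card F = 2) (e : ι ≃ Fin 2 × Fin n₂) (P : GL ι F)
    (T : (ι → F) ≃ₗ[F] (ι → F)) (hT : ∀ v, rows e P (T v) = ((rows e P v).2, (rows e P v).1 + (rows e P v).2))
    (G : Subgroup (GL ι F))
    (hg1 : ∃ g ∈ G, (∀ v, (g : Matrix ι ι F).mulVec (T v) = T ((g : Matrix ι ι F).mulVec v)) ∧
      ∃ x y, ∀ p q : F, p • (rows e P ((g : Matrix ι ι F).mulVec (pureT e P x y))).1 +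
        q • (rows e P ((g : Matrix ι ι F).mulVec (pureT e P x y))).2 = 0 → p = 0 ∧ q = 0)
    (hg2 : ∃ g ∈ G, ∃ v y z, rows e P v = (y, 0) ∧ rows e P ((g : Matrix ι ι F).mulVec v) = (y, 0) ∧
      rows e P ((g : Matrix ι ι F).mulVec (T v)) = (z, y) ∧ z ≠ 0 ∧ z ≠ y) :
    ∃ K : Subgroup (GL ι F), Cfsg.Geo.tensorProductSubgroup 2 n₂ e P ⊓ G < K ∧ K < G := by
  have h2 : (2 : F) = 0 := by
    have h := FiniteField.cast_card_eq_zero F
    rw [hq] at h; exact_mod_cast h
  have h01 := zero_or_one (F := F) hq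
  have hT2 : ∀ v, rows e P (T (T v)) = ((rows e P v).1 + (rows e P v).2, (rows e P v).1) := fun v => by
    rw [hT, hT]
    refine Prod.ext rfl (funext fun i => ?_)
    show (rows e P v).2 i + ((rows e P v).1 i + (rows e P v).2 i) = (rows e P v).1 i
    linear_combination (rows e P v).2 i * h2
  have hT3 : ∀ v, T (T (T v)) = v := fun v => (rows e P).injective (by
    rw [hT, hT2]
    refine Prod.ext rfl (funext fun i => ?_)
    show (rows e P v).1 i + (rows e P v).2 i + (rows e P v).1 i = (rows e P v).2 i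
    linear_combination (rows e P v).1 i * h2)
  have hTp : ∀ x y, T (pureT e P x y) = pureT e P ((!![0, 1; 1, 1] : Matrix (Fin 2) (Fin 2) F).mulVec x) y :=
    fun x y => (rows e P).injective (by
      rw [hT, rows_pureT, rows_pureT]; simp [Matrix.mulVec, dotProduct, Fin.sum_univ_two, add_smul])
  have hext : ∀ A B : (ι → F) →ₗ[F] (ι → F), (∀ x y, A (pureT e P x y) = B (pureT e P x y)) → ∀ v, A v = B v := by
    intro A B h v
    have : v = pureT e P ![1, 0] (rows e P v).1 + pureT e P ![0, 1] (rows e P v).2 :=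
      (rows e P).injective (by rw [map_add, rows_pureT, rows_pureT]; simp)
    rw [this, map_add, map_add, h, h]
  let Tg : GL ι F := (glEquiv ι F).symm T
  have hTg : ∀ v, (Tg : Matrix ι ι F).mulVec v = T v := fun v => symm_mulVec T v
  let S : Set (GL ι F) := {Tg, Tg⁻¹}
  have hinv : Tg⁻¹ = Tg * Tg := inv_eq_of_mul_eq_one_right (by
    apply (glEquiv ι F).injective
    refine LinearEquiv.ext fun v => ?_
    rw [map_one, map_mul, map_mul, MulEquiv.apply_symm_apply]
    exact hT3 v)
  have hone : ∀ g ∈ Cfsg.Geo.tensorProductSubgroup 2 n₂ e P, g * Tg * g⁻¹ ∈ S := by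
    intro g hg
    obtain ⟨a, b, hab⟩ := exists_pair e P hg
    have hdet : (a : Matrix (Fin 2) (Fin 2) F).det ≠ 0 := (Matrix.GeneralLinearGroup.det a).ne_zero
    rcases commute_or_inverse h01 h2 (a : Matrix (Fin 2) (Fin 2) F) hdet with hc | hc
    · refine Or.inl (mul_inv_eq_iff_eq_mul.2 ((glEquiv ι F).injective (LinearEquiv.ext fun v => ?_)))
      rw [map_mul, map_mul]
      refine hext ((glEquiv ι F g) * (glEquiv ι F Tg)).toLinearMap ((glEquiv ι F Tg) * (glEquiv ι F g)).toLinearMap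
        (fun x y => ?_) v
      show (g : Matrix ι ι F).mulVec ((Tg : Matrix ι ι F).mulVec _) = (Tg : Matrix ι ι F).mulVec ((g : Matrix ι ι F).mulVec _)
      rw [hTg, hTg, hTp, hab, hab, hTp, Matrix.mulVec_mulVec, Matrix.mulVec_mulVec, hc]
    · refine Or.inr (Set.mem_singleton_iff.2 (mul_inv_eq_iff_eq_mul.2 ((glEquiv ι F).injective (LinearEquiv.ext fun v => ?_))))
      rw [hinv, map_mul, map_mul, map_mul]
      refine hext ((glEquiv ι F g) * (glEquiv ι F Tg)).toLinearMap
        ((glEquiv ι F Tg) * (glEquiv ι F Tg) * (glEquiv ι F g)).toLinearMap (fun x y => ?_) v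
      show (g : Matrix ι ι F).mulVec ((Tg : Matrix ι ι F).mulVec _) =
        (Tg : Matrix ι ι F).mulVec ((Tg : Matrix ι ι F).mulVec ((g : Matrix ι ι F).mulVec _))
      have hsq : (!![0, 1; 1, 1] : Matrix (Fin 2) (Fin 2) F) * !![0, 1; 1, 1] = !![1, 1; 1, 0] := by
        have h11 : (1 : F) + 1 = 0 := by linear_combination h2
        simp [h11]
      rw [hTg, hTg, hTg, hTp, hab, hab, hTp, hTp, Matrix.mulVec_mulVec, Matrix.mulVec_mulVec, Matrix.mulVec_mulVec, hc,
        ← hsq]
  have hmapS : ∀ g ∈ Cfsg.Geo.tensorProductSubgroup 2 n₂ e P, ∀ n ∈ S, g * n * g⁻¹ ∈ S := by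
    intro g hg n hn
    rcases hn with rfl | rfl
    · exact hone g hg
    · have := hone g hg
      rw [show g * Tg⁻¹ * g⁻¹ = (g * Tg * g⁻¹)⁻¹ by group]
      rcases this with h | h
      · rw [h]; exact Or.inr rfl
      · rw [Set.mem_singleton_iff.1 h, inv_inv]; exact Or.inl rfl
  obtain ⟨g1, hg1, hcomm, x, y, hind⟩ := hg1
  obtain ⟨g2, hg2, v, y2, z, hv, hgv, hgTv, hz0, hzy⟩ := hg2
  refine ⟨Subgroup.normalizer S ⊓ G, lt_of_le_not_ge ?_ fun hle => ?_, lt_of_le_not_ge inf_le_right fun hle => ?_⟩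
  · rintro g ⟨hgM, hgG⟩
    refine ⟨Subgroup.mem_set_normalizer_iff.2 fun n => ⟨fun hn => hmapS g hgM n hn, fun hn => ?_⟩, hgG⟩
    have := hmapS g⁻¹ (inv_mem hgM) _ hn
    simpa [mul_assoc] using this
  · have hg1n : g1 ∈ Subgroup.normalizer S := by
      have hc : g1 * Tg = Tg * g1 := (glEquiv ι F).injective (LinearEquiv.ext fun w => by
        rw [map_mul, map_mul, LinearEquiv.mul_apply, LinearEquiv.mul_apply, glEquiv_apply, glEquiv_apply,
          glEquiv_apply, glEquiv_apply, hTg, hTg]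
        exact hcomm w)
      have hc' : g1 * Tg⁻¹ = Tg⁻¹ * g1 := (Commute.inv_right (show Commute g1 Tg from hc)).eq
      have hfix : ∀ k : GL ι F, Commute k Tg → ∀ n ∈ S, k * n * k⁻¹ = n := by
        intro k hk n hn
        rcases hn with rfl | rfl
        · rw [hk.eq, mul_inv_cancel_right]
        · rw [hk.inv_right.eq, mul_inv_cancel_right]
      refine Subgroup.mem_set_normalizer_iff.2 fun n => ⟨fun hn => by rwa [hfix g1 hc n hn], fun hn => ?_⟩
      have := hfix g1⁻¹ (Commute.inv_left hc) _ hn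
      have e1 : n = g1 * n * g1⁻¹ := by
        conv_rhs => rw [← this]
        group
      exact e1 ▸ hn
    obtain ⟨hM, -⟩ := hle ⟨hg1n, hg1⟩
    obtain ⟨a, b, hab⟩ := exists_pair e P hM
    have hr := hind
    rw [hab, rows_pureT] at hr
    set x' := (a : Matrix (Fin 2) (Fin 2) F).mulVec x
    rcases eq_or_ne (x' 0) 0 with h0 | h0
    · exact one_ne_zero (hr 1 0 (by simp [h0])).1
    · exact h0 (neg_eq_zero.1 (hr (x' 1) (-(x' 0)) (by simp [smul_smul, mul_comm, sub_self])).2)
  · have hn := (hle hg2).1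
    have h := (Subgroup.mem_set_normalizer_iff.1 hn Tg).1 (Or.inl rfl)
    have hw : ∀ n : GL ι F, g2 * Tg * g2⁻¹ = n → rows e P ((g2 : Matrix ι ι F).mulVec (T v)) =
        rows e P ((n : Matrix ι ι F).mulVec ((g2 : Matrix ι ι F).mulVec v)) := fun n hn' => by
      rw [mul_inv_eq_iff_eq_mul.1 hn' |> fun h => show (g2 : Matrix ι ι F).mulVec (T v) = _ by
        rw [← hTg, Matrix.mulVec_mulVec, ← Units.val_mul, h, Units.val_mul, ← Matrix.mulVec_mulVec]]
    rcases h with h | h
    · have := hw _ h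
      rw [hgTv, hTg, hT, hgv] at this
      exact hz0 (congrArg Prod.fst this)
    · have := hw _ (Set.mem_singleton_iff.1 h)
      rw [hgTv, hinv, Units.val_mul, ← Matrix.mulVec_mulVec, hTg, hTg, hT2, hgv] at this
      exact hzy (by simpa using congrArg Prod.fst this)

/-- the map of order three -/
noncomputable def omegaMap (e : ι ≃ Fin 2 × Fin n₂) (P : GL ι F) (h2 : (2 : F) = 0) : (ι → F) ≃ₗ[F] (ι → F) :=
  ((rows e P).trans
    { toFun := fun p => (p.2, p.1 + p.2)
      map_add' := fun p q => by simp [add_add_add_comm]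
      map_smul' := fun c p => by simp [smul_add]
      invFun := fun p => (p.1 + p.2, p.1)
      left_inv := fun p => Prod.ext (funext fun i => by
        show p.2 i + (p.1 i + p.2 i) = p.1 i
        linear_combination p.2 i * h2) rfl
      right_inv := fun p => Prod.ext rfl (funext fun i => by
        show p.1 i + p.2 i + p.1 i = p.2 i
        linear_combination p.1 i * h2) }).trans (rows e P).symm

theorem rows_omegaMap (e : ι ≃ Fin 2 × Fin n₂) (P : GL ι F) (h2 : (2 : F) = 0) (v : ι → F) :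
    rows e P (omegaMap e P h2 v) = ((rows e P v).2, (rows e P v).1 + (rows e P v).2) := by
  simp [omegaMap]

theorem linear_tensor_four_not_max (hq : Fintype.card F = 2) (hn₂ : 2 ≤ n₂) (e : ι ≃ Fin 2 × Fin n₂) (P : GL ι F) :
    ∃ K : Subgroup (GL ι F), Cfsg.Geo.tensorProductSubgroup 2 n₂ e P ⊓ Cfsg.Geo.specialLinear ι F < K ∧
      K < Cfsg.Geo.specialLinear ι F := by
  have h2 : (2 : F) = 0 := by
    have h := FiniteField.cast_card_eq_zero F
    rw [hq] at h; exact_mod_cast h
  let i : Fin n₂ := ⟨0, by omega⟩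
  let j : Fin n₂ := ⟨1, by omega⟩
  have hij : i ≠ j := by simp [i, j, Fin.ext_iff]
  let y : Fin n₂ → F := Pi.single i 1
  let w : Fin n₂ → F := Pi.single j 1
  let R := rows e P
  let r1 : Dual F (ι → F) := ((LinearMap.proj i).comp (LinearMap.fst F _ _)).comp R.toLinearMap
  let r2 : Dual F (ι → F) := ((LinearMap.proj i).comp (LinearMap.snd F _ _)).comp R.toLinearMap
  let z0 := R.symm (0, w)
  let z1 := R.symm (w, w)
  let z2 := R.symm (w, 0)
  have hw : w i = 0 := by simp [w, hij]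
  have e10 : r1 z0 = 0 := by simp [r1, z0]
  have e21 : r2 z1 = 0 := by simp [r2, z1, hw]
  have e11 : r1 z1 = 0 := by simp [r1, z1, hw]
  have e22 : r2 z2 = 0 := by simp [r2, z2]
  have hg1e : ∀ v, R ((tvec r1 z0 * tvec r2 z1) v) = ((R v).1 + (R v).2 i • w, (R v).2 + ((R v).1 i + (R v).2 i) • w) := by
    intro v
    rw [LinearEquiv.mul_apply, tvec_apply e21, tvec_apply e10, map_add r1 v, map_smul r1, e11, smul_zero, add_zero]
    rw [map_add, map_add, map_smul, map_smul]
    refine Prod.ext ?_ ?_ <;> simp [r1, r2, z0, z1, add_smul] <;> abel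
  refine tensor_four_not_max hq e P (omegaMap e P h2) (rows_omegaMap e P h2) _
    ⟨_, mul_mem (tvec_mem_specialLinear r1 z0) (tvec_mem_specialLinear r2 z1), fun v => R.injective ?_, ![1, 0], y,
      fun p q hpq => ?_⟩
    ⟨_, tvec_mem_specialLinear r2 z2, R.symm (y, 0), y, w, R.apply_symm_apply _, ?_, ?_, fun h => ?_, fun h => ?_⟩
  · rw [← map_mul, symm_mulVec, symm_mulVec, hg1e, rows_omegaMap e P h2 v, rows_omegaMap e P h2 _, hg1e]
    refine Prod.ext (funext fun k => ?_) (funext fun k => ?_)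
    · show (R v).2 k + ((R v).1 i + (R v).2 i) * w k = (R v).2 k + ((R v).1 i + (R v).2 i) * w k
      rfl
    · show (R v).1 k + (R v).2 k + ((R v).2 i + ((R v).1 i + (R v).2 i)) * w k =
        (R v).1 k + (R v).2 i * w k + ((R v).2 k + ((R v).1 i + (R v).2 i) * w k)
      ring
  · rw [← map_mul, symm_mulVec, hg1e, rows_pureT] at hpq
    simp [y] at hpq
    have h1 := congrFun hpq i
    have h2' := congrFun hpq j
    simp [hw, w, hij, hij.symm] at h1 h2'
    exact ⟨h1, h2'⟩
  · rw [symm_mulVec, tvec_apply e22, map_add, map_smul]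
    simp [r2, R, z2]
  · rw [symm_mulVec, tvec_apply e22, map_add, map_smul, rows_omegaMap]
    simp [r2, R, z2, rows_omegaMap, y]
  · exact one_ne_zero (α := F) (by simpa [w] using congrFun h j)
  · exact one_ne_zero (α := F) (by simpa [y, hw] using (congrFun h i).symm)

theorem orth_tensor_four_not_max {Q : QuadraticForm F (ι → F)} (hQ : (polarBilin Q).Nondegenerate)
    (hn : 5 ≤ Fintype.card ι) (hq : Fintype.card F = 2) (hn₂ : 3 ≤ n₂) (e : ι ≃ Fin 2 × Fin n₂) (P : GL ι F)
    {f₁ : (Fin 2 → F) → (Fin 2 → F) → F} {f₂ : (Fin n₂ → F) → (Fin n₂ → F) → F} (hf₁ : Cfsg.Geo.IsSymplecticForm f₁)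
    (hf₂ : Cfsg.Geo.IsSymplecticForm f₂) (hT : Cfsg.Geo.IsTensorFormStructure id (QuadraticMap.polar ⇑Q) f₁ f₂ e P)
    (hpure : ∀ x y, Q (pureT e P x y) = 0) :
    ∃ K : Subgroup (GL ι F), Cfsg.Geo.tensorProductSubgroup 2 n₂ e P ⊓ Cfsg.Geo.omegaGL ⇑Q < K ∧
      K < Cfsg.Geo.omegaGL ⇑Q := by
  have h2 : (2 : F) = 0 := by
    have h := FiniteField.cast_card_eq_zero F
    rw [hq] at h; exact_mod_cast h
  have h01 := zero_or_one (F := F) hq
  obtain ⟨c, hc, hprod⟩ := form_pureT id (fun a b => rfl) hT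
    (formOfGram_bilinear id hf₁.bilinear.add_left hf₁.bilinear.smul_left hf₁.bilinear.add_right
      fun c v x => hf₁.bilinear.smul_right c v x)
    (formOfGram_bilinear id hf₂.bilinear.add_left hf₂.bilinear.smul_left hf₂.bilinear.add_right
      fun c v x => hf₂.bilinear.smul_right c v x)
  rw [(h01 c).resolve_left hc] at hprod
  have he : f₁ ![1, 0] ![0, 1] = 1 := by
    refine (h01 _).resolve_left fun h0 => ?_
    obtain ⟨x, hx⟩ := (hf₁.nondegenerate ![1, 0] (fun h => one_ne_zero (congrFun h 0))).2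
    refine hx ?_
    have : x = x 0 • (![1, 0] : Fin 2 → F) + x 1 • (![0, 1] : Fin 2 → F) := by
      funext k; fin_cases k <;> simp
    rw [this, hf₁.bilinear.add_right, hf₁.bilinear.smul_right, hf₁.bilinear.smul_right, hf₁.alternating, h0]
    ring
  have he' : f₁ ![0, 1] ![1, 0] = 1 := by rw [hf₁.skew, he]; linear_combination -h2
  let R := rows e P
  let pr : (Fin n₂ → F) → (Fin n₂ → F) → (ι → F) := fun a b => pureT e P ![1, 0] a + pureT e P ![0, 1] b
  have hR : ∀ a b, R (pr a b) = (a, b) := fun a b => by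
    show rows e P (pureT e P ![1, 0] a + pureT e P ![0, 1] b) = (a, b)
    rw [map_add, rows_pureT, rows_pureT]; simp
  have hpr : ∀ v, v = pr (R v).1 (R v).2 := fun v => R.injective (by rw [hR])
  have hB : ∀ a b a' b', polar Q (pr a b) (pr a' b') = f₂ a b' + f₂ b a' := fun a b a' b' => by
    simp only [pr, polar_add_left, polar_add_right, hprod, hf₁.alternating, he, he']
    ring
  have hQv : ∀ a b, Q (pr a b) = f₂ a b := fun a b => by
    simp only [pr, map_add' (Q := Q), hpure, hprod, he]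
    ring
  -- vectors
  have hex : ∀ u : Fin n₂ → F, u ≠ 0 → ∃ y, f₂ y u = 1 := fun u hu => by
    obtain ⟨y, hy⟩ := (hf₂.nondegenerate u hu).1
    exact ⟨y, (h01 _).resolve_left hy⟩
  let B : LinearMap.BilinForm F (Fin n₂ → F) := LinearMap.mk₂ F f₂ hf₂.bilinear.add_left
    (fun c x y => by rw [hf₂.bilinear.smul_left, smul_eq_mul]) hf₂.bilinear.add_right
    (fun c x y => by rw [hf₂.bilinear.smul_right, smul_eq_mul])
  obtain ⟨u, hu0⟩ : ∃ u : Fin n₂ → F, u ≠ 0 := ⟨fun _ => 1, fun h => one_ne_zero (congrFun h ⟨0, by omega⟩)⟩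
  obtain ⟨y₀, hy₀⟩ := hex u hu0
  obtain ⟨u', hu'⟩ : ∃ u', f₂ u u' = 0 ∧ u' ∉ Submodule.span F {u} := by
    by_contra h
    push Not at h
    have h1 := Submodule.finrank_mono (show LinearMap.ker (B u) ≤ Submodule.span F {u} from fun x hx => h x hx)
    have h2' := LinearMap.finrank_range_add_finrank_ker (B u)
    have h3 := Submodule.finrank_le (LinearMap.range (B u))
    rw [finrank_span_singleton hu0] at h1
    rw [Module.finrank_self] at h3
    rw [Module.finrank_fin_fun] at h2'
    omega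
  obtain ⟨huu', hspan⟩ := hu'
  -- correct the partner so that it is orthogonal to the second vector
  have hu'u : f₂ u' u = 0 := by rw [hf₂.skew, huu', neg_zero]
  obtain ⟨y, hyu, hyu'⟩ : ∃ y, f₂ y u = 1 ∧ f₂ y u' = 0 := by
    have hBnd : B.Nondegenerate :=
      ⟨fun x hx => by_contra fun h => (hf₂.nondegenerate x h).2.elim fun y hy => hy (hx y),
        fun x hx => by_contra fun h => (hf₂.nondegenerate x h).1.elim fun y hy => hy (hx y)⟩
    have hu' : u ∉ Submodule.span F {u'} := fun h => by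
      obtain ⟨d, hd⟩ := Submodule.mem_span_singleton.1 h
      rcases h01 d with rfl | rfl
      · exact hu0 (by rw [← hd, zero_smul])
      · exact hspan (Submodule.mem_span_singleton.2 ⟨1, by rw [← hd, one_smul, one_smul]⟩)
    obtain ⟨ψ, hψ, hker⟩ := (Submodule.span F {u'}).exists_le_ker_of_notMem hu'
    refine ⟨(LinearMap.BilinForm.toDual B hBnd).symm ψ, ?_, ?_⟩
    · exact (LinearMap.BilinForm.apply_toDual_symm_apply (hB := hBnd) (f := ψ) u).trans ((h01 _).resolve_left hψ)
    · exact (LinearMap.BilinForm.apply_toDual_symm_apply (hB := hBnd) (f := ψ) u').trans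
        (LinearMap.mem_ker.1 (hker (Submodule.mem_span_singleton_self u')))
  set T := omegaMap e P h2 with hTdef
  have hTpr : ∀ a b, T (pr a b) = pr b (a + b) := fun a b => R.injective (by
    rw [hR]
    show rows e P (omegaMap e P h2 (pr a b)) = _
    rw [rows_omegaMap, show rows e P (pr a b) = (a, b) from hR a b])
  set w := pr u u'
  have hQw : Q w = 0 := by rw [hQv, huu']
  have hwT : polar Q w (T w) = 0 := by
    rw [hTpr, hB, hf₂.bilinear.add_right, hf₂.alternating, hf₂.alternating, huu']; ring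
  have hQT : Q (T w) = 0 := by
    rw [hTpr, hQv, hf₂.bilinear.add_right, hu'u, hf₂.alternating, add_zero]
  obtain ⟨g1, hg1, hg1e⟩ := exists_siegel hQ hn hQw hwT
  obtain ⟨g2, hg2, hg2e⟩ := exists_siegel hQ hn (show Q (pr u 0) = 0 by
    rw [hQv]; simpa using hf₂.bilinear.smul_right 0 u u) (show polar Q (pr u 0) (pr u' 0) = 0 by
    rw [hB]
    have h0 : ∀ a, f₂ a 0 = 0 := fun a => by simpa using hf₂.bilinear.smul_right 0 a a
    have h0' : ∀ a, f₂ 0 a = 0 := fun a => by simpa using hf₂.bilinear.smul_left 0 a a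
    rw [h0, h0', add_zero])
  have h0 : ∀ a, f₂ a 0 = 0 := fun a => by simpa using hf₂.bilinear.smul_right 0 a a
  have h0' : ∀ a, f₂ 0 a = 0 := fun a => by simpa using hf₂.bilinear.smul_left 0 a a
  have hneg : ∀ z : F, -z = z := fun z => by linear_combination -z * h2
  have hpr_add : ∀ a b a' b', pr a b + pr a' b' = pr (a + a') (b + b') := fun a b a' b' => R.injective (by
    rw [map_add, hR, hR, hR]; rfl)
  have hpr_smul : ∀ (d : F) a b, d • pr a b = pr (d • a) (d • b) := fun d a b => R.injective (by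
    rw [map_smul, hR, hR]; rfl)
  have hTw : T w = pr u' (u + u') := hTpr u u'
  have hG1 : ∀ a b, (g1 : Matrix ι ι F).mulVec (pr a b) =
      pr (a + (f₂ a (u + u') + f₂ b u') • u + (f₂ a u' + f₂ b u) • u')
        (b + (f₂ a (u + u') + f₂ b u') • u' + (f₂ a u' + f₂ b u) • (u + u')) := fun a b => by
    rw [hg1e, hQT, zero_mul, hneg, hneg, hTw, show polar Q (pr a b) w = f₂ a u' + f₂ b u from hB a b u u', hB,
      show w = pr u u' from rfl, zero_smul, add_zero, hpr_smul, hpr_smul, hpr_add, hpr_add]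
  refine tensor_four_not_max hq e P T (rows_omegaMap e P h2) _
    ⟨g1, hg1, fun v => ?_, ![1, 0], y, fun p q hpq => ?_⟩
    ⟨g2, hg2, pr y 0, y, u', hR y 0, ?_, ?_, fun h => ?_, fun h => ?_⟩
  · obtain ⟨a, b, rfl⟩ : ∃ a b, v = pr a b := ⟨_, _, hpr v⟩
    rw [hTpr, hG1, hG1, hTpr]
    simp only [hf₂.bilinear.add_left, hf₂.bilinear.add_right]
    refine congrArg₂ pr (funext fun k => ?_) (funext fun k => ?_) <;> simp only [Pi.add_apply, Pi.smul_apply, smul_eq_mul]
    · linear_combination (f₂ b u' * u k - f₂ a u' * u' k) * h2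
    · linear_combination (f₂ b u' * u' k - f₂ a u' * u' k - f₂ a u' * u k) * h2
  · have hv : pureT e P ![1, 0] y = pr y 0 := R.injective (by rw [hR]; show rows e P _ = _; rw [rows_pureT]; simp)
    rw [hv, hG1, show ∀ a b, rows e P (pr a b) = (a, b) from hR, hf₂.bilinear.add_right, hyu, hyu', h0', h0'] at hpq
    simp only [add_zero, zero_add, zero_smul, one_smul] at hpq
    have h1 := congrArg (fun z => f₂ z u) hpq
    simp only [hf₂.bilinear.add_left, hf₂.bilinear.smul_left, hf₂.alternating, hu'u, hyu, h0'] at h1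
    have hp : p = 0 := by linear_combination h1
    rw [hp, zero_smul, zero_add] at hpq
    exact ⟨hp, (smul_eq_zero.1 hpq).resolve_right fun h => hspan (h ▸ Submodule.zero_mem _)⟩
  · rw [hg2e, hB, hB, h0 y, h0' u', h0' u]
    simp only [add_zero, neg_zero, zero_smul, mul_zero]
    exact hR y 0
  · rw [hg2e, hTpr, add_zero, hB, hB, hQv, h0' 0, h0 u', hyu, hyu', zero_add, zero_add]
    simp only [zero_mul, neg_zero, zero_smul, add_zero, hneg, one_smul, hpr_add, h0 u', zero_add]
    exact hR u' y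
  · exact hspan (h ▸ Submodule.zero_mem _)
  · rw [← h, hu'u] at hyu
    exact zero_ne_one hyu

end Cfsg.Agent.NotMax
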