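import Cfsg.Agent.NotMax.Basic

/-!
A tensor decomposition one of whose factors has a frame preserved by all its similitudes: the stabiliser
preserves the set of pure tensors with first factor in the frame, so it is not maximal.
-/

set_option autoImplicit false
set_option linter.unusedSectionVars false

namespace Cfsg.Agent.NotMax

open Module Cfsg.Agent.ClassicalMax
open scoped Kronecker

variable {ι : Type} [Fintype ι] [DecidableEq ι] {F : Type*} [Field F]

section Coord

variable {n₁ n₂ : ℕ}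

/-- the linear map from coordinates -/
noncomputable def tensorCoord (e : ι ≃ Fin n₁ × Fin n₂) (P : GL ι F) : (Fin n₁ × Fin n₂ → F) →ₗ[F] (ι → F) :=
  (Matrix.toLin' (P : Matrix ι ι F)).comp (LinearMap.funLeft F F e)

/-- the pure tensor of two vectors -/
noncomputable def pureT (e : ι ≃ Fin n₁ × Fin n₂) (P : GL ι F) :
    (Fin n₁ → F) →ₗ[F] (Fin n₂ → F) →ₗ[F] (ι → F) :=
  (LinearMap.mk₂ F (fun x y => fun a : Fin n₁ × Fin n₂ => x a.1 * y a.2)
    (fun x x' y => funext fun a => by simp [add_mul]) (fun c x y => funext fun a => by simp [mul_assoc])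
    (fun x y y' => funext fun a => by simp [mul_add]) (fun c x y => funext fun a => by simp [mul_left_comm])).compr₂
      (tensorCoord e P)

theorem pureT_apply (e : ι ≃ Fin n₁ × Fin n₂) (P : GL ι F) (x : Fin n₁ → F) (y : Fin n₂ → F) :
    pureT e P x y = (P : Matrix ι ι F).mulVec ((fun a : Fin n₁ × Fin n₂ => x a.1 * y a.2) ∘ e) := rfl

theorem exists_pair (e : ι ≃ Fin n₁ × Fin n₂) (P : GL ι F) {g : GL ι F}
    (hg : g ∈ Cfsg.Geo.tensorProductSubgroup n₁ n₂ e P) :
    ∃ (a : GL (Fin n₁) F) (b : GL (Fin n₂) F), ∀ x y, (g : Matrix ι ι F).mulVec (pureT e P x y) =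
      pureT e P ((a : Matrix (Fin n₁) (Fin n₁) F).mulVec x) ((b : Matrix (Fin n₂) (Fin n₂) F).mulVec y) := by
  obtain ⟨k, hk, rfl⟩ := Subgroup.mem_map.1 hg
  obtain ⟨h, ⟨a, b, hab⟩, rfl⟩ := Subgroup.mem_map.1 hk
  refine ⟨a, b, fun x y => ?_⟩
  have hR : ((Cfsg.Geo.glReindex e.symm h : GL ι F) : Matrix ι ι F) =
      (h : Matrix (Fin n₁ × Fin n₂) (Fin n₁ × Fin n₂) F).submatrix e e := rfl
  rw [pureT_apply, pureT_apply, MulEquiv.coe_toMonoidHom, MulAut.conj_apply, Units.val_mul, Units.val_mul,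
    Matrix.mulVec_mulVec, Matrix.mul_assoc, ← Units.val_mul P⁻¹ P, inv_mul_cancel, Units.val_one, Matrix.mul_one,
    ← Matrix.mulVec_mulVec, MulEquiv.coe_toMonoidHom, hR]
  congr 1
  rw [Matrix.submatrix_mulVec_equiv, Function.comp_assoc, e.self_comp_symm, Function.comp_id]
  congr 1
  funext p
  rw [hab]
  simp only [Matrix.mulVec, dotProduct, Matrix.kroneckerMap_apply, Fintype.sum_prod_type, Finset.sum_mul_sum]
  exact Finset.sum_congr rfl fun i _ => Finset.sum_congr rfl fun j _ => by ring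

theorem formOfGram_bilinear {κ : Type} [Fintype κ] [DecidableEq κ] {f : (κ → F) → (κ → F) → F} (σ : F → F)
    (ha : ∀ x y v, f (x + y) v = f x v + f y v) (hs : ∀ (c : F) (x v : κ → F), f (c • x) v = c * f x v)
    (ha' : ∀ v x y, f v (x + y) = f v x + f v y) (hs' : ∀ (c : F) (v x : κ → F), f v (c • x) = σ c * f v x)
    (x y : κ → F) : Cfsg.Geo.formOfGram σ (Cfsg.Geo.gramMatrix f) x y = f x y := by
  let L : (κ → F) →+ F := AddMonoidHom.mk' (fun z => f z y) (fun a b => ha a b y)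
  let R : ∀ z : κ → F, (κ → F) →+ F := fun z => AddMonoidHom.mk' (fun w => f z w) (ha' z)
  have hx : x = ∑ a, x a • (Pi.single a (1 : F) : κ → F) := pi_eq_sum_univ' x
  have hy : y = ∑ b, y b • (Pi.single b (1 : F) : κ → F) := pi_eq_sum_univ' y
  have e1 : f x y = ∑ a, x a * f (Pi.single a 1) y := by
    conv_lhs => rw [hx]
    rw [show f (∑ a, x a • (Pi.single a (1 : F) : κ → F)) y = L _ from rfl, map_sum]
    exact Finset.sum_congr rfl fun a _ => hs _ _ _
  rw [e1, Cfsg.Geo.formOfGram]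
  refine Finset.sum_congr rfl fun a _ => ?_
  conv_rhs => rw [hy]
  rw [show f (Pi.single a 1) (∑ b, y b • (Pi.single b (1 : F) : κ → F)) = R _ _ from rfl, map_sum, Finset.mul_sum]
  refine Finset.sum_congr rfl fun b _ => ?_
  rw [show R (Pi.single a 1) (y b • (Pi.single b (1 : F) : κ → F)) = f _ _ from rfl, hs', Cfsg.Geo.gramMatrix]
  ring

theorem form_pureT (σ : F → F) (hσ : ∀ a b, σ (a * b) = σ a * σ b) {f : (ι → F) → (ι → F) → F}
    {f₁ : (Fin n₁ → F) → (Fin n₁ → F) → F} {f₂ : (Fin n₂ → F) → (Fin n₂ → F) → F} {e : ι ≃ Fin n₁ × Fin n₂}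
    {P : GL ι F} (hT : Cfsg.Geo.IsTensorFormStructure σ f f₁ f₂ e P)
    (h₁ : ∀ x y, Cfsg.Geo.formOfGram σ (Cfsg.Geo.gramMatrix f₁) x y = f₁ x y)
    (h₂ : ∀ x y, Cfsg.Geo.formOfGram σ (Cfsg.Geo.gramMatrix f₂) x y = f₂ x y) :
    ∃ c : F, c ≠ 0 ∧ ∀ x y x' y', f (pureT e P x y) (pureT e P x' y') = c * (f₁ x x' * f₂ y y') := by
  obtain ⟨c, hc, h⟩ := hT
  refine ⟨c, hc, fun x y x' y' => ?_⟩
  rw [pureT_apply, pureT_apply, h, ← h₁, ← h₂]
  congr 1
  simp only [Cfsg.Geo.formOfGram, Matrix.kroneckerMap_apply, Fintype.sum_prod_type, hσ, Finset.sum_mul_sum]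
  exact Finset.sum_congr rfl fun a _ => Finset.sum_congr rfl fun b _ =>
    Finset.sum_congr rfl fun a' _ => Finset.sum_congr rfl fun b' _ => by ring

end Coord

section Abstract

variable {U W : Type*} [AddCommGroup U] [Module F U] [AddCommGroup W] [Module F W]

/-- a tensor decomposition with an orthogonal frame in the first factor -/
structure FrameData (G : Subgroup (GL ι F)) (pt : U →ₗ[F] W →ₗ[F] (ι → F)) (f : (ι → F) → (ι → F) → F) (c : F)
    (s : U → U → F) (b : W → W → F) {k : ℕ} (e : Fin k → U) : Prop where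
  c_ne : c ≠ 0
  add_left : ∀ x y v, f (x + y) v = f x v + f y v
  prod : ∀ x y x' y', f (pt x y) (pt x' y') = c * (s x x' * b y y')
  b_add : ∀ y z v, b (y + z) v = b y v + b z v
  b_smul : ∀ (d : F) y v, b (d • y) v = d * b y v
  b_nondeg : ∀ y, y ≠ 0 → ∃ z, b y z ≠ 0
  span : ∀ x, ∃ d : Fin k → F, x = ∑ i, d i • e i
  orth : ∀ i j, i ≠ j → s (e i) (e j) = 0
  diag : ∀ i, s (e i) (e i) ≠ 0
  isom : ∀ g ∈ G, ∀ u v, f ((g : Matrix ι ι F).mulVec u) ((g : Matrix ι ι F).mulVec v) = f u v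
  rigid : ∀ (a : U → U), ∀ ν : F, ν ≠ 0 → (∀ x x', s (a x) (a x') = ν * s x x') → ∀ i, ∃ j, ∃ d : F, a (e i) = d • e j

variable {G : Subgroup (GL ι F)} {pt : U →ₗ[F] W →ₗ[F] (ι → F)} {f : (ι → F) → (ι → F) → F} {c : F} {s : U → U → F}
  {b : W → W → F} {k : ℕ} {e : Fin k → U}

/-- the components along the frame are determined -/
theorem FrameData.component (h : FrameData G pt f c s b e) (z z' : Fin k → W)
    (heq : ∑ i, pt (e i) (z i) = ∑ i, pt (e i) (z' i)) (j : Fin k) : z j = z' j := by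
  classical
  let L : ∀ v : ι → F, (ι → F) →+ F := fun v => AddMonoidHom.mk' (fun u => f u v) (fun x y => h.add_left x y v)
  by_contra hne
  obtain ⟨y', hy'⟩ := h.b_nondeg (z j - z' j) (sub_ne_zero.2 hne)
  have hz : ∀ z : Fin k → W, L (pt (e j) y') (∑ i, pt (e i) (z i)) = c * (s (e j) (e j) * b (z j) y') := fun z => by
    rw [map_sum, Finset.sum_eq_single j]
    · exact h.prod _ _ _ _
    · intro i _ hi
      show f _ _ = 0
      rw [h.prod, h.orth i j hi]; ring
    · simp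
  have e1 : c * (s (e j) (e j) * b (z j) y') = c * (s (e j) (e j) * b (z' j) y') := by rw [← hz, ← hz, heq]
  have e2 := mul_left_cancel₀ (h.diag j) (mul_left_cancel₀ h.c_ne e1)
  apply hy'
  rw [sub_eq_add_neg, ← neg_one_smul F (z' j), h.b_add, h.b_smul, e2]
  ring

theorem FrameData.notMem_of_two (h : FrameData G pt f c s b e) {i j : Fin k} (hij : i ≠ j) {y y' : W} (hy : y ≠ 0)
    (hy' : y' ≠ 0) (l : Fin k) (z : W) : pt (e i) y + pt (e j) y' ≠ pt (e l) z := fun heq => by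
  classical
  have key := h.component (Pi.single i y + Pi.single j y') (Pi.single l z) (by
    have hsum : ∀ (l : Fin k) (z : W), ∑ a, pt (e a) ((Pi.single l z : Fin k → W) a) = pt (e l) z := fun l z => by
      rw [Finset.sum_eq_single l (fun a _ ha => by rw [Pi.single_eq_of_ne ha, map_zero]) (by simp), Pi.single_eq_same]
    rw [hsum]
    simp only [Pi.add_apply, map_add, Finset.sum_add_distrib, hsum, heq])
  by_cases hl : l = i
  · subst hl
    have := key j
    simp [hij.symm] at this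
    exact hy' this
  · have := key i
    simp [hij, Ne.symm hl] at this
    exact hy this

/-- the main criterion -/
theorem FrameData.not_max [Finite F] (h : FrameData G pt f c s b e) (M : Subgroup (GL ι F))
    (hM : ∀ g ∈ M, ∃ (a : U → U) (b' : W → W), ∀ x y, (g : Matrix ι ι F).mulVec (pt x y) = pt (a x) (b' y))
    (i0 i1 : Fin k) (h01 : i0 ≠ i1)
    (hg1 : ∃ g ∈ G, ∃ φ : W → W, (∀ y, (g : Matrix ι ι F).mulVec (pt (e i0) y) = pt (e i0) (φ y)) ∧
      (∀ i, i ≠ i0 → ∀ y, (g : Matrix ι ι F).mulVec (pt (e i) y) = pt (e i) y) ∧ ∃ y0, ∀ d : F, φ y0 ≠ d • y0)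
    (hg2 : ∃ g ∈ G, ∃ y z z' : W, z ≠ 0 ∧ z' ≠ 0 ∧
      (g : Matrix ι ι F).mulVec (pt (e i0) y) = pt (e i0) z + pt (e i1) z') :
    ∃ K : Subgroup (GL ι F), M ⊓ G < K ∧ K < G := by
  classical
  obtain ⟨g1, hg1, φ, hφ, hfix, y0, hy0⟩ := hg1
  obtain ⟨g2, hg2, y, z, z', hz, hz', hg2e⟩ := hg2
  refine exists_between G M {v | ∃ i y, v = pt (e i) y} (fun g hgM hgG v hv => ?_) ⟨g1, hg1, fun v hv => ?_, fun hgM => ?_⟩
    ⟨g2, hg2, _, ⟨i0, y, rfl⟩, fun ⟨l, w, hl⟩ => h.notMem_of_two h01 hz hz' l w (hg2e.symm.trans hl)⟩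
  · obtain ⟨i, y, rfl⟩ := hv
    obtain ⟨a, b', hab⟩ := hM g hgM
    have hy0' : y0 ≠ 0 := fun e0 => hy0 1 (by
      have := h.component (Pi.single i0 (φ y0)) 0 (by
        rw [Finset.sum_eq_single i0 (fun a _ ha => by rw [Pi.single_eq_of_ne ha, map_zero]) (by simp),
          Pi.single_eq_same, ← hφ, e0]
        simp) i0
      simp at this
      rw [this, e0, smul_zero])
    obtain ⟨y1, hy1⟩ := h.b_nondeg y0 hy0'
    have hst : ∀ x x', s (a x) (a x') * b (b' y0) (b' y1) = s x x' * b y0 y1 := fun x x' => mul_left_cancel₀ h.c_ne (by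
      rw [← h.prod, ← hab, ← hab, h.isom g hgG, h.prod])
    have hμ : b (b' y0) (b' y1) ≠ 0 := fun e0 => by
      have := hst (e i) (e i)
      rw [e0, mul_zero] at this
      exact mul_ne_zero (h.diag i) hy1 this.symm
    obtain ⟨j, d, hd⟩ := h.rigid a (b y0 y1 / b (b' y0) (b' y1)) (div_ne_zero hy1 hμ) (fun x x' => by
      rw [div_mul_eq_mul_div, eq_div_iff hμ, hst]; ring) i
    exact ⟨j, d • b' y, by rw [hab, hd, map_smul, LinearMap.smul_apply, map_smul]⟩
  · obtain ⟨i, y, rfl⟩ := hv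
    by_cases hi : i = i0
    · exact ⟨i0, φ y, by rw [hi, hφ]⟩
    · exact ⟨i, y, hfix i hi y⟩
  · obtain ⟨a, b', hab⟩ := hM g1 hgM
    obtain ⟨d, hd⟩ := h.span (a (e i0 + e i1))
    have hsum : pt (e i0) (φ y0) + pt (e i1) y0 = ∑ i, pt (e i) (d i • b' y0) := by
      rw [← hφ, ← hfix i1 h01.symm y0, ← Matrix.mulVec_add, ← LinearMap.add_apply, ← map_add, hab, hd]
      simp
    have key := h.component (Pi.single i0 (φ y0) + Pi.single i1 y0) (fun i => d i • b' y0) (by
      rw [← hsum]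
      have hs : ∀ (l : Fin k) (z : W), ∑ a, pt (e a) ((Pi.single l z : Fin k → W) a) = pt (e l) z := fun l z => by
        rw [Finset.sum_eq_single l (fun a _ ha => by rw [Pi.single_eq_of_ne ha, map_zero]) (by simp), Pi.single_eq_same]
      simp only [Pi.add_apply, map_add, Finset.sum_add_distrib, hs])
    have k0 := key i0
    have k1 := key i1
    simp [h01, h01.symm] at k0 k1
    by_cases hd1 : d i1 = 0
    · exact hy0 1 (by
        rw [hd1, zero_smul] at k1
        have := h.component (Pi.single i0 (φ y0)) 0 (by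
          rw [Finset.sum_eq_single i0 (fun a _ ha => by rw [Pi.single_eq_of_ne ha, map_zero]) (by simp),
            Pi.single_eq_same, ← hφ, k1]
          simp) i0
        simp at this
        rw [this, k1, smul_zero])
    · exact hy0 (d i0 / d i1) (k0.trans ((congrArg (fun w => (d i0 / d i1) • w) k1).trans (by rw [smul_smul, div_mul_cancel₀ _ hd1])).symm)

end Abstract

end Cfsg.Agent.NotMax
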