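import Cfsg.Agent.NotMax.Basic
import Cfsg.Agent.Classical.QuadBasis

/-!
The standard quadratic form in odd dimension as a non-degenerate quadratic form.
-/

set_option autoImplicit false

namespace Cfsg.Agent.NotMax

open Module QuadraticMap Cfsg.Agent.Classical Cfsg.Agent.Classical.Quad

variable {F : Type*} [Field F] [Fintype F]

theorem exists_oddQF (h2 : (2 : F) ≠ 0) (m : ℕ) :
    ∃ Q : QuadraticForm F (Unit ⊕ (Fin m ⊕ Fin m) → F),
      ⇑Q = Cfsg.quadFormOdd m F ∧ (polarBilin Q).Nondegenerate :=
  ⟨(hyp (sqForm F) m).comp (oddCoord m).toLinearMap, funext fun x => by simp [oddCoord_map],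
    Iso.nondeg (Iso.symm ⟨oddCoord m, fun x => by simp⟩) (nondeg_hyp (nondeg_sqForm h2) m)⟩

theorem two_ne_zero_of_card_three (hq : Fintype.card F = 3) : (2 : F) ≠ 0 := fun h => by
  have h2 : ringChar F = 2 := by
    by_contra h'
    exact Ring.two_ne_zero h' h
  have h' := FiniteField.even_card_of_char_two h2
  omega

end Cfsg.Agent.NotMax
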