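import Cfsg.Agent.NotMax.Basic
import Cfsg.Agent.Classical.OrthChar

/-!
Stabilisers of orthogonal decompositions with small members over small fields: they preserve a finer structure
(a frame, a lattice over the prime field, or a set of planes), so they are not maximal in `Ω(Q)`.
-/

set_option autoImplicit false
set_option linter.unusedSectionVars false

namespace Cfsg.Agent.NotMax

open Module QuadraticMap Cfsg.Agent.ClassicalMax Cfsg.Agent.Classical Cfsg.Agent.Classical.Quad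

variable {ι : Type} [Fintype ι] [DecidableEq ι] {F : Type*} [Field F] [Fintype F] {Q : QuadraticForm F (ι → F)}
variable {t k : ℕ} {D : Fin t → Submodule F (ι → F)}

section Decomp

variable (hD : Cfsg.Geo.IsOrthogonalMDecomposition ⇑Q k D)
include hD

theorem polar_eq_zero_of_ne {i j : Fin t} (h : i ≠ j) {u v : ι → F} (hu : u ∈ D i) (hv : v ∈ D j) :
    polar Q u v = 0 := hD.decomp.orthogonal i j h u hu v hv

theorem notMem_of_two {v y y' : ι → F} {i j : Fin t} (hij : i ≠ j) (hy : y ∈ D i) (hy' : y' ∈ D j)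
    (h : polar Q v y ≠ 0) (h' : polar Q v y' ≠ 0) (l : Fin t) : v ∉ D l := fun hv => by
  by_cases hl : l = i
  · exact h' (polar_eq_zero_of_ne hD (hl ▸ hij) hv hy')
  · exact h (polar_eq_zero_of_ne hD hl hv hy)

theorem notMem_stabilizer {g : GL ι F} {x y y' : ι → F} {i₀ i j : Fin t} (hx : x ∈ D i₀) (hij : i ≠ j) (hy : y ∈ D i)
    (hy' : y' ∈ D j) (h : polar Q ((g : Matrix ι ι F).mulVec x) y ≠ 0)
    (h' : polar Q ((g : Matrix ι ι F).mulVec x) y' ≠ 0) : g ∉ Cfsg.Geo.decompositionStabilizer D := fun hM => by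
  obtain ⟨σ, hσ⟩ := hM
  exact notMem_of_two hD hij hy hy' h h' (σ i₀) (hσ i₀ ▸ ⟨x, hx, Matrix.toLin'_apply _ _⟩)

/-- vectors of a given value in the members are permuted by the stabiliser -/
theorem valueSet_invariant (ε : F) {g : GL ι F} (hgM : g ∈ Cfsg.Geo.decompositionStabilizer D)
    (hgG : g ∈ Cfsg.Geo.omegaGL ⇑Q) {v : ι → F} (hv : ∃ i, v ∈ D i ∧ Q v = ε) :
    ∃ i, (g : Matrix ι ι F).mulVec v ∈ D i ∧ Q ((g : Matrix ι ι F).mulVec v) = ε := by
  obtain ⟨σ, hσ⟩ := hgM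
  obtain ⟨i, hi, hε⟩ := hv
  exact ⟨σ i, hσ i ▸ ⟨v, hi, Matrix.toLin'_apply _ _⟩, (omega_map g hgG v).trans hε⟩

/-- a subspace of a non-degenerate member has a vector pairing with it -/
theorem exists_pair_one {i : Fin t} {v : ι → F} (hv : v ∈ D i) (hv0 : v ≠ 0) : ∃ y ∈ D i, polar Q v y = 1 := by
  obtain ⟨-, y, hy, hne⟩ := hD.decomp.nondegenerate i v hv hv0
  exact ⟨(polar Q v y)⁻¹ • y, (D i).smul_mem _ hy, by rw [polar_smul_right, smul_eq_mul, inv_mul_cancel₀ hne]⟩

/-- a vector with a property in one member gives one in every member -/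
theorem exists_family {η : F} (P : ∀ i, (ι → F) → Prop) (i₀ : Fin t) {a : ι → F} (ha : a ∈ D i₀) (hη : Q a = η)
    (hP : ∀ i (e : D i₀ ≃ₗ[F] D i), (∀ w, Q (e w : ι → F) = Q (w : ι → F)) → P i (e ⟨a, ha⟩ : ι → F)) :
    ∃ f : Fin t → (ι → F), ∀ i, f i ∈ D i ∧ Q (f i) = η ∧ P i (f i) :=
  ⟨fun i => ((Classical.choose (hD.isometric i₀ i) ⟨a, ha⟩ : D i) : ι → F), fun i =>
    ⟨(Classical.choose (hD.isometric i₀ i) ⟨a, ha⟩).2,
      (Classical.choose_spec (hD.isometric i₀ i) ⟨a, ha⟩).trans hη,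
      hP i _ (Classical.choose_spec (hD.isometric i₀ i))⟩⟩

/-- the stabiliser of a decomposition with an orthogonal frame in each member -/
theorem frame_not_max (hQ : (polarBilin Q).Nondegenerate) (h2 : (2 : F) ≠ 0) (ht : 5 ≤ t) (hk : 2 ≤ k) {η : F}
    (hη : η ≠ 0) (a₀ : ι → F) (ha₀ : a₀ ∈ D ⟨0, by omega⟩) (hQa : Q a₀ = η)
    (hfr : ∀ s ∈ D ⟨0, by omega⟩, Q s = η → s = a₀ ∨ s = -a₀ ∨ polar Q a₀ s = 0) :
    ∃ K : Subgroup (GL ι F), Cfsg.Geo.decompositionStabilizer D ⊓ Cfsg.Geo.omegaGL ⇑Q < K ∧ K < Cfsg.Geo.omegaGL ⇑Q := by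
  obtain ⟨a, ha⟩ := exists_family hD (fun i x => ∀ s ∈ D i, Q s = η → s = x ∨ s = -x ∨ polar Q x s = 0) ⟨0, by omega⟩
    ha₀ hQa fun i e he s hs hsη => by
    have h1 := hfr (e.symm ⟨s, hs⟩ : ι → F) (e.symm ⟨s, hs⟩).2 (by rw [← he, e.apply_symm_apply]; exact hsη)
    rcases h1 with h | h | h
    · refine Or.inl ?_
      have : e.symm ⟨s, hs⟩ = ⟨a₀, ha₀⟩ := Subtype.ext h
      rw [← this, e.apply_symm_apply]
    · refine Or.inr (Or.inl ?_)
      have : e.symm ⟨s, hs⟩ = -⟨a₀, ha₀⟩ := Subtype.ext h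
      rw [e.symm_apply_eq, map_neg] at this
      exact congrArg Subtype.val this
    · refine Or.inr (Or.inr ?_)
      have hpol : ∀ u w : D ⟨0, by omega⟩, polar Q (e u : ι → F) (e w : ι → F) = polar Q (u : ι → F) (w : ι → F) :=
        fun u w => by simp only [polar, ← Submodule.coe_add, ← map_add, he]
      rwa [← hpol ⟨a₀, ha₀⟩ (e.symm ⟨s, hs⟩), e.apply_symm_apply] at h
  let I : Fin 5 → Fin t := fun j => ⟨j, by omega⟩
  have hI : ∀ p q : Fin 5, p ≠ q → I p ≠ I q := fun p q h e => h (Fin.ext (by simpa [I] using congrArg Fin.val e))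
  let c : Fin 5 → (ι → F) := fun j => a (I j)
  have hc : ∀ j, c j ∈ D (I j) := fun j => (ha _).1
  have hcQ : ∀ j, Q (c j) = η := fun j => (ha _).2.1
  have horth : ∀ p q, p ≠ q → polar Q (c p) (c q) = 0 := fun p q h => polar_eq_zero_of_ne hD (hI p q h) (hc p) (hc q)
  have hself : ∀ j, polar Q (c j) (c j) = 2 * η := fun j => by rw [polar_self', hcQ]
  have hdiff : ∀ p q, p ≠ q → Q (c p - c q) = 2 * η := fun p q h => by
    rw [sub_eq_add_neg, map_add', QuadraticMap.map_neg, polar_neg_right, hcQ, hcQ, horth p q h]; ring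
  have h2η : (2 : F) * η ≠ 0 := mul_ne_zero h2 hη
  let S : Set (ι → F) := {v | ∃ i, v ∈ D i ∧ Q v = η}
  have hrefl : ∀ p q (hpq : p ≠ q) (hne : Q (c p - c q) ≠ 0), ∀ s ∈ S, (rO hne).1 s ∈ S := by
    intro p q hpq hne s hs
    obtain ⟨i, hi, hsη⟩ := hs
    have hQs : Q ((rO hne).1 s) = η := ((rO hne).2 s).trans hsη
    rw [rO_apply, polar_sub_right, hdiff p q hpq]
    by_cases hp : i = I p
    · subst hp
      rw [polar_eq_zero_of_ne hD (hI p q hpq) hi (hc q), sub_zero]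
      rcases (ha (I p)).2.2 s hi hsη with h | h | h
      · refine ⟨I q, ?_, ?_⟩
        · rw [h, hself, div_self h2η, one_smul, sub_sub_cancel]; exact hc q
        · rw [h, hself, div_self h2η, one_smul, sub_sub_cancel]; exact hcQ q
      · refine ⟨I q, ?_, ?_⟩
        · rw [h, polar_neg_left, hself, neg_div, div_self h2η, neg_smul, one_smul, sub_neg_eq_add,
            show -a (I p) + (c p - c q) = -c q by simp [c]; abel]
          exact (D _).neg_mem (hc q)
        · rw [h, polar_neg_left, hself, neg_div, div_self h2η, neg_smul, one_smul, sub_neg_eq_add,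
            show -a (I p) + (c p - c q) = -c q by simp [c]; abel, QuadraticMap.map_neg]
          exact hcQ q
      · rw [polar_comm, h]
        exact ⟨I p, by simpa using hi, by simpa using hsη⟩
    by_cases hq : i = I q
    · subst hq
      rw [polar_eq_zero_of_ne hD hp hi (hc p), zero_sub]
      rcases (ha (I q)).2.2 s hi hsη with h | h | h
      · refine ⟨I p, ?_, ?_⟩
        · rw [h, hself, neg_div, div_self h2η, neg_smul, one_smul]; simpa [c] using hc p
        · rw [h, hself, neg_div, div_self h2η, neg_smul, one_smul]; simpa [c] using hcQ p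
      · refine ⟨I p, ?_, ?_⟩
        · rw [h, polar_neg_left, hself, neg_neg, div_self h2η, one_smul,
            show -a (I q) - (c p - c q) = -c p by simp only [c]; abel]
          exact (D _).neg_mem (hc p)
        · rw [h, polar_neg_left, hself, neg_neg, div_self h2η, one_smul,
            show -a (I q) - (c p - c q) = -c p by simp only [c]; abel, QuadraticMap.map_neg]
          exact hcQ p
      · rw [polar_comm, h]
        exact ⟨I q, by simpa using hi, by simpa using hsη⟩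
    · rw [polar_eq_zero_of_ne hD hp hi (hc p), polar_eq_zero_of_ne hD hq hi (hc q)]
      exact ⟨i, by simpa using hi, by simpa using hsη⟩
  obtain ⟨g1, hg1, hg1e⟩ := exists_refl_pair hQ (u := c 0 - c 1) (v := c 2 - c 3) (by rwa [hdiff 0 1 (by decide)])
    (by rw [hdiff 0 1 (by decide), hdiff 2 3 (by decide)])
  obtain ⟨b, hb, hb0, hbp⟩ : ∃ b ∈ D (I 0), b ≠ 0 ∧ polar Q (c 0) b = 0 := by
    have hker : LinearMap.ker ((polarBilin Q (c 0)).domRestrict (D (I 0))) ≠ ⊥ := by
      refine LinearMap.ker_ne_bot_of_finrank_lt ?_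
      rw [Module.finrank_self, hD.decomp.decomp.finrank_eq]; omega
    obtain ⟨b, hb, hb0⟩ := Submodule.exists_mem_ne_zero_of_ne_bot hker
    exact ⟨b, b.2, fun h => hb0 (Subtype.ext h), hb⟩
  obtain ⟨y, hy, hby⟩ := exists_pair_one hD hb hb0
  set u := c 0 + c 1 + c 2 + c 3 with hu
  have hQu : Q u = 4 * η := by
    rw [hu, map_add', map_add', map_add', polar_add_left, polar_add_left, polar_add_left, hcQ, hcQ, hcQ, hcQ,
      horth 0 1 (by decide), horth 0 2 (by decide), horth 1 2 (by decide), horth 0 3 (by decide),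
      horth 1 3 (by decide), horth 2 3 (by decide)]
    ring
  have h4 : (4 : F) ≠ 0 := by
    rw [show (4 : F) = 2 * 2 by norm_num]; exact mul_ne_zero h2 h2
  obtain ⟨g2, hg2, hg2e⟩ := exists_refl_pair hQ (u := u) (v := (2 : F) • c 4) (by rw [hQu]; exact mul_ne_zero h4 hη)
    (by rw [map_smul', hcQ, hQu]; ring)
  refine exists_between _ _ S (fun g hgM hgG v hv => valueSet_invariant hD η hgM hgG hv)
    ⟨g1, hg1, fun v hv => ?_, ?_⟩ ⟨g2, hg2, c 0, ⟨I 0, hc 0, hcQ 0⟩, ?_⟩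
  · rw [hg1e]
    exact hrefl 0 1 (by decide) _ _ (hrefl 2 3 (by decide) _ _ hv)
  · have himg : (g1 : Matrix ι ι F).mulVec (c 0 + b) = c 1 + b := by
      rw [hg1e]
      have hfix : (rO (v := c 2 - c 3) (by rwa [hdiff 2 3 (by decide)])).1 (c 0 + b) = c 0 + b := by
        rw [rO_apply]
        have e : polar Q (c 0 + b) (c 2 - c 3) = 0 := by
          rw [polar_sub_right, polar_add_left, polar_add_left, horth 0 2 (by decide), horth 0 3 (by decide),
            polar_eq_zero_of_ne hD (hI 0 2 (by decide)) hb (hc 2),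
            polar_eq_zero_of_ne hD (hI 0 3 (by decide)) hb (hc 3)]
          ring
        rw [e]; simp
      rw [hfix, rO_apply]
      have e : polar Q (c 0 + b) (c 0 - c 1) = 2 * η := by
        rw [polar_sub_right, polar_add_left, polar_add_left, hself, horth 0 1 (by decide), polar_comm Q b (c 0), hbp,
          polar_eq_zero_of_ne hD (hI 0 1 (by decide)) hb (hc 1)]
        ring
      rw [e, hdiff 0 1 (by decide), div_self h2η, one_smul]
      abel
    refine notMem_stabilizer hD (i₀ := I 0) ((D (I 0)).add_mem (hc 0) hb) (hI 0 1 (by decide)) hy (hc 1) ?_ ?_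
    · rw [himg, polar_add_left, polar_eq_zero_of_ne hD (hI 1 0 (by decide)) (hc 1) hy, hby, zero_add]
      exact one_ne_zero
    · rw [himg, polar_add_left, hself, polar_eq_zero_of_ne hD (hI 0 1 (by decide)) hb (hc 1), add_zero]
      exact h2η
  · have himg : (g2 : Matrix ι ι F).mulVec (c 0) = c 0 - (2⁻¹ : F) • u := by
      rw [hg2e]
      have hfix : (rO (v := (2 : F) • c 4) (by rw [map_smul', hcQ]; exact mul_ne_zero (mul_ne_zero h2 h2) hη)).1 (c 0) =
          c 0 := by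
        rw [rO_apply, polar_smul_right, horth 0 4 (by decide)]; simp
      rw [hfix, rO_apply, hQu, hu, polar_add_right, polar_add_right, polar_add_right, hself, horth 0 1 (by decide),
        horth 0 2 (by decide), horth 0 3 (by decide)]
      congr 2
      field_simp
      ring
    rintro ⟨l, hl, -⟩
    rw [himg] at hl
    refine notMem_of_two hD (hI 0 1 (by decide)) (hc 0) (hc 1) ?_ ?_ l hl
    · rw [polar_sub_left, polar_smul_left, hu, polar_add_left, polar_add_left, polar_add_left, hself,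
        horth 1 0 (by decide), horth 2 0 (by decide), horth 3 0 (by decide), smul_eq_mul]
      simp only [add_zero]
      rw [inv_mul_cancel_left₀ h2]
      intro h
      exact hη (by linear_combination h)
    · rw [polar_sub_left, polar_smul_left, hu, polar_add_left, polar_add_left, polar_add_left, hself,
        horth 0 1 (by decide), horth 2 1 (by decide), horth 3 1 (by decide), smul_eq_mul]
      simp only [add_zero, zero_add]
      rw [inv_mul_cancel_left₀ h2]
      intro h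
      exact hη (by linear_combination -h)

/-- the stabiliser of a decomposition into hyperbolic planes over a field with two or four elements -/
theorem lattice_not_max (hQ : (polarBilin Q).Nondegenerate) (hn : 5 ≤ Fintype.card ι) (h2 : (2 : F) = 0) (ht : 4 ≤ t)
    (R : AddSubgroup F) (hR01 : ∀ r ∈ R, r = 0 ∨ r = 1) (lam : F) (hlam : lam ∉ R)
    (hpol : ∀ i, ∀ s ∈ D i, ∀ s' ∈ D i, Q s = 1 → Q s' = 1 → polar Q s s' ∈ R)
    (a : Fin t → (ι → F)) (ha : ∀ i, a i ∈ D i ∧ Q (a i) = 1)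
    (e : ι → F) (he : e ∈ D ⟨2, by omega⟩) (heQ : Q e = 0) (hea : polar Q e (a ⟨2, by omega⟩) = lam) :
    ∃ K : Subgroup (GL ι F), Cfsg.Geo.decompositionStabilizer D ⊓ Cfsg.Geo.omegaGL ⇑Q < K ∧ K < Cfsg.Geo.omegaGL ⇑Q := by
  let S1 : Set (ι → F) := {v | ∃ i, v ∈ D i ∧ Q v = 1}
  let L := AddSubgroup.closure S1
  have hS1 : ∀ s ∈ S1, ∀ s' ∈ S1, polar Q s s' ∈ R := by
    rintro s ⟨i, hi, hs⟩ s' ⟨j, hj, hs'⟩
    by_cases h : i = j
    · subst h; exact hpol i s hi s' hj hs hs'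
    · rw [polar_eq_zero_of_ne hD h hi hj]; exact R.zero_mem
  have hLR : ∀ v ∈ L, ∀ s ∈ S1, polar Q v s ∈ R := fun v hv => by
    induction hv using AddSubgroup.closure_induction with
    | mem v hv => exact hS1 v hv
    | zero => intro s hs; simp [polar]
    | add x y _ _ hx hy => intro s hs; rw [polar_add_left]; exact R.add_mem (hx s hs) (hy s hs)
    | neg x _ hx => intro s hs; rw [polar_neg_left]; exact R.neg_mem (hx s hs)
  have hL : ∀ g : GL ι F, (∀ v ∈ S1, (g : Matrix ι ι F).mulVec v ∈ L) → ∀ v ∈ L, (g : Matrix ι ι F).mulVec v ∈ L :=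
    fun g hg v hv => by
      induction hv using AddSubgroup.closure_induction with
      | mem v hv => exact hg v hv
      | zero => rw [Matrix.mulVec_zero]; exact L.zero_mem
      | add x y _ _ hx hy => rw [Matrix.mulVec_add]; exact L.add_mem hx hy
      | neg x _ hx => rw [Matrix.mulVec_neg]; exact L.neg_mem hx
  let I : Fin 4 → Fin t := fun j => ⟨j, by omega⟩
  have hI : ∀ p q : Fin 4, p ≠ q → I p ≠ I q := fun p q h e => h (Fin.ext (by simpa [I] using congrArg Fin.val e))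
  let c : Fin 4 → (ι → F) := fun j => a (I j)
  have hc : ∀ j, c j ∈ D (I j) := fun j => (ha _).1
  have hc1 : ∀ j, c j ∈ S1 := fun j => ⟨_, hc j, (ha _).2⟩
  have horth : ∀ p q, p ≠ q → polar Q (c p) (c q) = 0 := fun p q h => polar_eq_zero_of_ne hD (hI p q h) (hc p) (hc q)
  have hsum : ∀ p q, p ≠ q → Q (c p + c q) = 0 := fun p q h => by
    rw [map_add', (ha _).2, (ha _).2, horth p q h]; linear_combination h2
  have hc0 : c 0 ≠ 0 := fun h => one_ne_zero ((ha (I 0)).2.symm.trans (show Q (c 0) = 0 by rw [h, QuadraticMap.map_zero]))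
  obtain ⟨x, hx, hax⟩ := exists_pair_one hD (hc 0) hc0
  have hxa : polar Q x (c 0) = 1 := by rw [polar_comm, hax]
  have hw : polar Q (c 0 + c 1) (c 2 + c 3) = 0 := by
    rw [polar_add_left, polar_add_right, polar_add_right, horth 0 2 (by decide), horth 0 3 (by decide),
      horth 1 2 (by decide), horth 1 3 (by decide)]
    ring
  obtain ⟨g1, hg1, hg1e⟩ := exists_siegel hQ hn (hsum 0 1 (by decide)) hw
  obtain ⟨g2, hg2, hg2e⟩ := exists_siegel hQ hn heQ
    (polar_eq_zero_of_ne hD (hI 2 0 (by decide)) (show e ∈ D (I 2) from he) hx)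
  refine exists_between _ _ (L : Set (ι → F))
    (fun g hgM hgG => hL g fun v hv => AddSubgroup.subset_closure (valueSet_invariant hD 1 hgM hgG hv))
    ⟨g1, hg1, hL g1 fun v hv => ?_, ?_⟩ ⟨g2, hg2, c 0, AddSubgroup.subset_closure (hc1 0), fun h => ?_⟩
  · have hin : ∀ (r : F) (z : ι → F), r ∈ R → z ∈ L → r • z ∈ L := fun r z hr hz => by
      rcases hR01 r hr with rfl | rfl
      · rw [zero_smul]; exact L.zero_mem
      · rwa [one_smul]
    have hp : c 0 + c 1 ∈ L := L.add_mem (AddSubgroup.subset_closure (hc1 0)) (AddSubgroup.subset_closure (hc1 1))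
    have hq : c 2 + c 3 ∈ L := L.add_mem (AddSubgroup.subset_closure (hc1 2)) (AddSubgroup.subset_closure (hc1 3))
    rw [hg1e, hsum 2 3 (by decide), zero_mul, neg_zero, zero_smul, add_zero, polar_add_right, polar_add_right]
    exact L.add_mem (L.add_mem (AddSubgroup.subset_closure hv)
      (hin _ _ (R.add_mem (hS1 v hv _ (hc1 2)) (hS1 v hv _ (hc1 3))) hp))
      (hin _ _ (R.neg_mem (R.add_mem (hS1 v hv _ (hc1 0)) (hS1 v hv _ (hc1 1)))) hq)
  · obtain ⟨y, hy, hay⟩ := exists_pair_one hD (hc 2) (fun h =>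
      one_ne_zero ((ha (I 2)).2.symm.trans (show Q (c 2) = 0 by rw [h, QuadraticMap.map_zero])))
    have himg : (g1 : Matrix ι ι F).mulVec x = x - (c 2 + c 3) := by
      rw [hg1e, hsum 2 3 (by decide), polar_add_right, polar_add_right,
        polar_eq_zero_of_ne hD (hI 0 2 (by decide)) hx (hc 2), polar_eq_zero_of_ne hD (hI 0 3 (by decide)) hx (hc 3),
        polar_eq_zero_of_ne hD (hI 0 1 (by decide)) hx (hc 1), hxa]
      simp [sub_eq_add_neg]
      abel
    refine notMem_stabilizer hD hx (hI 0 2 (by decide)) (hc 0) hy ?_ ?_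
    · rw [himg, polar_sub_left, polar_add_left, hxa, horth 2 0 (by decide), horth 3 0 (by decide), add_zero, sub_zero]
      exact one_ne_zero
    · rw [himg, polar_sub_left, polar_add_left, polar_eq_zero_of_ne hD (hI 0 2 (by decide)) hx hy, hay,
        polar_eq_zero_of_ne hD (hI 3 2 (by decide)) (hc 3) hy, add_zero, zero_sub]
      exact neg_ne_zero.2 one_ne_zero
  · have himg : (g2 : Matrix ι ι F).mulVec (c 0) = c 0 + e := by
      rw [hg2e, polar_eq_zero_of_ne hD (hI 0 2 (by decide)) (hc 0) (show e ∈ D (I 2) from he), hax]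
      simp
    have := hLR _ h _ (hc1 2)
    rw [himg, polar_add_left, horth 0 2 (by decide), zero_add] at this
    exact hlam (hea ▸ this)

/-- the stabiliser of a decomposition into four-spaces with a pair of anisotropic planes -/
theorem planes_not_max (hQ : (polarBilin Q).Nondegenerate) (hn : 5 ≤ Fintype.card ι) (h2 : (2 : F) = 0) (ht : 3 ≤ t)
    (a₀ b₀ x₀ : ι → F) (ha₀ : a₀ ∈ D ⟨0, by omega⟩) (hb₀ : b₀ ∈ D ⟨0, by omega⟩) (hQa : Q a₀ = 1) (hQb : Q b₀ = 1)
    (hab : polar Q a₀ b₀ = 1) (hx₀ : x₀ ∈ D ⟨0, by omega⟩) (hx₀0 : x₀ ≠ 0) (hxa : polar Q x₀ a₀ = 0)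
    (hxb : polar Q x₀ b₀ = 0)
    (hpl : ∀ s ∈ D ⟨0, by omega⟩, Q s = 1 →
      (s = a₀ ∨ s = b₀ ∨ s = a₀ + b₀) ∨ (polar Q s a₀ = 0 ∧ polar Q s b₀ = 0)) :
    ∃ K : Subgroup (GL ι F), Cfsg.Geo.decompositionStabilizer D ⊓ Cfsg.Geo.omegaGL ⇑Q < K ∧ K < Cfsg.Geo.omegaGL ⇑Q := by
  have hneg : ∀ z : ι → F, -z = z := fun z => funext fun i => neg_eq_iff_add_eq_zero.2 (by linear_combination h2 * z i)
  let i0 : Fin t := ⟨0, by omega⟩
  have key : ∀ i, ∃ a ∈ D i, ∃ b ∈ D i, Q a = 1 ∧ Q b = 1 ∧ polar Q a b = 1 ∧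
      ∀ s ∈ D i, Q s = 1 → (s = a ∨ s = b ∨ s = a + b) ∨ (polar Q s a = 0 ∧ polar Q s b = 0) := fun i => by
    obtain ⟨e, he⟩ := hD.isometric i0 i
    have hpol : ∀ u w : D i0, polar Q (e u : ι → F) (e w : ι → F) = polar Q (u : ι → F) (w : ι → F) := fun u w => by
      simp only [polar, ← Submodule.coe_add, ← map_add, he]
    refine ⟨e ⟨a₀, ha₀⟩, (e _).2, e ⟨b₀, hb₀⟩, (e _).2, (he _).trans hQa, (he _).trans hQb,
      (hpol _ _).trans hab, fun s hs hs1 => ?_⟩
    obtain ⟨s', hs'⟩ := e.surjective ⟨s, hs⟩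
    obtain rfl : (e s' : ι → F) = s := congrArg Subtype.val hs'
    rcases hpl s' s'.2 ((he s').symm.trans hs1) with (h | h | h) | h
    · exact Or.inl (Or.inl (by rw [show s' = ⟨a₀, ha₀⟩ from Subtype.ext h]))
    · exact Or.inl (Or.inr (Or.inl (by rw [show s' = ⟨b₀, hb₀⟩ from Subtype.ext h])))
    · refine Or.inl (Or.inr (Or.inr ?_))
      rw [show s' = ⟨a₀, ha₀⟩ + ⟨b₀, hb₀⟩ from Subtype.ext h, map_add, Submodule.coe_add]
    · exact Or.inr ⟨(hpol _ _).trans h.1, (hpol _ _).trans h.2⟩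
  obtain ⟨a₁, ha₁, b₁, hb₁, hQa₁, hQb₁, hab₁, hpl₁⟩ := key ⟨1, by omega⟩
  obtain ⟨a₂, ha₂, -, -, hQa₂, -, -, -⟩ := key ⟨2, by omega⟩
  have h01 : i0 ≠ (⟨1, by omega⟩ : Fin t) := by simp [i0, Fin.ext_iff]
  have h02 : i0 ≠ (⟨2, by omega⟩ : Fin t) := by simp [i0, Fin.ext_iff]
  have h12 : (⟨1, by omega⟩ : Fin t) ≠ ⟨2, by omega⟩ := by simp [Fin.ext_iff]
  have hp : Q (a₀ + a₁) = 0 := by
    rw [map_add', hQa, hQa₁, polar_eq_zero_of_ne hD h01 ha₀ ha₁]; linear_combination h2
  have hw : Q (b₀ + b₁) = 0 := by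
    rw [map_add', hQb, hQb₁, polar_eq_zero_of_ne hD h01 hb₀ hb₁]; linear_combination h2
  have hpw : polar Q (a₀ + a₁) (b₀ + b₁) = 0 := by
    rw [polar_add_left, polar_add_right, polar_add_right, hab, hab₁, polar_eq_zero_of_ne hD h01 ha₀ hb₁,
      polar_eq_zero_of_ne hD h01.symm ha₁ hb₀]
    linear_combination h2
  obtain ⟨g1, hg1, hg1e⟩ := exists_siegel hQ hn hp hpw
  have hp' : Q (a₁ + a₂) = 0 := by
    rw [map_add', hQa₁, hQa₂, polar_eq_zero_of_ne hD h12 ha₁ ha₂]; linear_combination h2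
  have hpw' : polar Q (a₁ + a₂) b₀ = 0 := by
    rw [polar_add_left, polar_eq_zero_of_ne hD h01.symm ha₁ hb₀, polar_eq_zero_of_ne hD h02.symm ha₂ hb₀, add_zero]
  obtain ⟨g2, hg2, hg2e⟩ := exists_siegel hQ hn hp' hpw'
  have haa : polar Q a₀ a₀ = 0 := by rw [polar_self', hQa, mul_one, h2]
  have hbb : polar Q b₀ b₀ = 0 := by rw [polar_self', hQb, mul_one, h2]
  have haa₁ : polar Q a₁ a₁ = 0 := by rw [polar_self', hQa₁, mul_one, h2]
  have hbb₁ : polar Q b₁ b₁ = 0 := by rw [polar_self', hQb₁, mul_one, h2]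
  have hba : polar Q b₀ a₀ = 1 := by rw [polar_comm, hab]
  have hba₁ : polar Q b₁ a₁ = 1 := by rw [polar_comm, hab₁]
  refine exists_between _ _ {v | ∃ i, v ∈ D i ∧ Q v = 1} (fun g hgM hgG v hv => valueSet_invariant hD 1 hgM hgG hv)
    ⟨g1, hg1, fun v hv => ?_, ?_⟩ ⟨g2, hg2, a₀, ⟨i0, ha₀, hQa⟩, ?_⟩
  · obtain ⟨i, hi, hv1⟩ := hv
    have hQv : Q ((g1 : Matrix ι ι F).mulVec v) = 1 := (omega_map g1 hg1 v).trans hv1
    suffices h : ∃ j, (g1 : Matrix ι ι F).mulVec v ∈ D j by obtain ⟨j, hj⟩ := h; exact ⟨j, hj, hQv⟩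
    rw [hg1e, hw, zero_mul, neg_zero, zero_smul, add_zero, neg_smul, hneg, polar_add_right, polar_add_right]
    by_cases h0 : i = i0
    · subst h0
      rw [polar_eq_zero_of_ne hD h01 hi hb₁, polar_eq_zero_of_ne hD h01 hi ha₁, add_zero, add_zero]
      rcases hpl v hi hv1 with (rfl | rfl | rfl) | ⟨e1, e2⟩
      · refine ⟨⟨1, by omega⟩, ?_⟩
        rw [haa, hab, zero_smul, add_zero, one_smul]
        nth_rw 1 [← hneg v]
        simpa using ha₁
      · refine ⟨⟨1, by omega⟩, ?_⟩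
        rw [hbb, hba, zero_smul, add_zero, one_smul]
        nth_rw 1 [← hneg v]
        simpa using hb₁
      · refine ⟨⟨1, by omega⟩, ?_⟩
        rw [polar_add_left, polar_add_left, haa, hab, hba, hbb, add_zero, zero_add, one_smul, one_smul]
        nth_rw 1 [← hneg (a₀ + b₀)]
        rw [show -(a₀ + b₀) + (a₀ + a₁) + (b₀ + b₁) = a₁ + b₁ by abel]
        exact (D _).add_mem ha₁ hb₁
      · exact ⟨i0, by rw [e1, e2]; simpa using hi⟩
    by_cases h1 : i = ⟨1, by omega⟩
    · subst h1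
      rw [polar_eq_zero_of_ne hD h01.symm hi hb₀, polar_eq_zero_of_ne hD h01.symm hi ha₀, zero_add, zero_add]
      rcases hpl₁ v hi hv1 with (rfl | rfl | rfl) | ⟨e1, e2⟩
      · refine ⟨i0, ?_⟩
        rw [haa₁, hab₁, zero_smul, add_zero, one_smul]
        nth_rw 1 [← hneg v]
        simpa [add_comm a₀] using ha₀
      · refine ⟨i0, ?_⟩
        rw [hbb₁, hba₁, zero_smul, add_zero, one_smul]
        nth_rw 1 [← hneg v]
        simpa [add_comm b₀] using hb₀
      · refine ⟨i0, ?_⟩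
        rw [polar_add_left, polar_add_left, haa₁, hab₁, hba₁, hbb₁, add_zero, zero_add, one_smul, one_smul]
        nth_rw 1 [← hneg (a₁ + b₁)]
        rw [show -(a₁ + b₁) + (a₀ + a₁) + (b₀ + b₁) = a₀ + b₀ by abel]
        exact (D _).add_mem ha₀ hb₀
      · exact ⟨⟨1, by omega⟩, by rw [e1, e2]; simpa using hi⟩
    · exact ⟨i, by rw [polar_eq_zero_of_ne hD h0 hi hb₀, polar_eq_zero_of_ne hD h1 hi hb₁,
        polar_eq_zero_of_ne hD h0 hi ha₀, polar_eq_zero_of_ne hD h1 hi ha₁]; simpa using hi⟩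
  · obtain ⟨y, hy, hxy⟩ := exists_pair_one hD hx₀ hx₀0
    have himg : (g1 : Matrix ι ι F).mulVec (x₀ + a₀) = x₀ + a₀ + (a₀ + a₁) := by
      rw [hg1e, hw, polar_add_right, polar_add_right, polar_add_left, polar_add_left, polar_add_left, polar_add_left,
        hxa, hxb, haa, hab, polar_eq_zero_of_ne hD h01 hx₀ ha₁, polar_eq_zero_of_ne hD h01 hx₀ hb₁,
        polar_eq_zero_of_ne hD h01 ha₀ ha₁, polar_eq_zero_of_ne hD h01 ha₀ hb₁]
      simp
    have h' : x₀ + a₀ + (a₀ + a₁) = x₀ + a₁ := by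
      nth_rw 1 [← hneg a₀]; abel
    refine notMem_stabilizer hD (i₀ := i0) ((D i0).add_mem hx₀ ha₀) h01 hy hb₁ ?_ ?_
    · rw [himg, h', polar_add_left, hxy, polar_eq_zero_of_ne hD h01.symm ha₁ hy, add_zero]
      exact one_ne_zero
    · rw [himg, h', polar_add_left, polar_eq_zero_of_ne hD h01 hx₀ hb₁, hab₁, zero_add]
      exact one_ne_zero
  · have himg : (g2 : Matrix ι ι F).mulVec a₀ = a₀ + (a₁ + a₂) := by
      rw [hg2e, hab, polar_add_right, polar_eq_zero_of_ne hD h01 ha₀ ha₁, polar_eq_zero_of_ne hD h02 ha₀ ha₂]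
      simp
    rintro ⟨l, hl, -⟩
    rw [himg] at hl
    refine notMem_of_two hD h01 hb₀ hb₁ ?_ ?_ l hl
    · rw [polar_add_left, polar_add_left, hab, polar_eq_zero_of_ne hD h01.symm ha₁ hb₀,
        polar_eq_zero_of_ne hD h02.symm ha₂ hb₀, add_zero, add_zero]
      exact one_ne_zero
    · rw [polar_add_left, polar_add_left, hab₁, polar_eq_zero_of_ne hD h01 ha₀ hb₁,
        polar_eq_zero_of_ne hD h12.symm ha₂ hb₁, zero_add, add_zero]
      exact one_ne_zero

end Decomp

end Cfsg.Agent.NotMax
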